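import Cfsg.Agent.OrthPow.Basic
import Cfsg.Agent.SympType.Fusion
import Cfsg.Agent.SympType.LinearPow

/-!
# The commutator subgroup of the orthogonal group as an ambient group of a group of symplectic type
-/

set_option autoImplicit false
set_option linter.unusedSectionVars false

namespace CfsgLib.OrthPow

open Matrix Cfsg.Geo CfsgLib.SympType

local notation:max "mat" => Units.val

variable {ι : Type} [Fintype ι] [DecidableEq ι] [Nonempty ι] {F : Type*} [Field F]

/-- The scalar isometries. -/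
theorem scalar_orth (h2 : (2 : F) ≠ 0) {s : GL ι F} (hs : s ∈ scalars ι F) (ho : s ∈ orth ι F) : s = 1 ∨ s = -1 := by
  obtain ⟨c, hc⟩ := (mem_scalars_iff s).1 hs
  have e := (mem_orth_iff h2).1 ho
  rw [hc] at e
  have e' := congrFun (congrFun e (Classical.arbitrary ι)) (Classical.arbitrary ι)
  simp at e'
  rcases mul_self_eq_one_iff.1 (show (c : F) * c = 1 from e') with h | h
  · exact Or.inl (Units.ext (by rw [hc, h]; simp))
  · exact Or.inr (Units.ext (by rw [hc, h]; simp))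

theorem transpose_root (h2 : (2 : F) ≠ 0) {z : GL ι F} (ho : z ∈ orth ι F) (hz : z * z = -1) :
    (mat z)ᵀ = -mat z := by
  have h := congrArg mat hz
  rw [Units.val_mul, Units.val_neg, Units.val_one] at h
  calc (mat z)ᵀ = (mat z)ᵀ * (mat z * -mat z) := by rw [mul_neg, h, neg_neg, mul_one]
    _ = -mat z := by rw [← mul_assoc, (mem_orth_iff h2).1 ho, one_mul]

theorem transpose_involution (h2 : (2 : F) ≠ 0) {u : GL ι F} (ho : u ∈ orth ι F) (hu : u * u = 1) :
    (mat u)ᵀ = mat u := by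
  have h := congrArg mat hu
  rw [Units.val_mul, Units.val_one] at h
  calc (mat u)ᵀ = (mat u)ᵀ * (mat u * mat u) := by rw [h, mul_one]
    _ = mat u := by rw [← mul_assoc, (mem_orth_iff h2).1 ho, one_mul]

variable {R : Subgroup (GL ι F)} (D : Data R) (hR : R ≤ orth ι F)
include D hR

theorem ns_root {z : GL ι F} (hz : z ∈ R) (hz2 : z * z = -1) : z ∉ scalars ι F := fun h => by
  rcases scalar_orth D.two h (hR hz) with e | e <;> rw [e] at hz2 <;> exact ne_neg D.two _ (by simpa using hz2)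

/-- A scaled transvection of a root is a similarity. -/
theorem tv_transpose_mul {z t : GL ι F} (hz : z ∈ R) (hz2 : z * z = -1) (ht : mat t = 1 + mat z) :
    (mat t)ᵀ * mat t = (2 : F) • 1 ∧ mat t * (mat t)ᵀ = (2 : F) • 1 := by
  have h := congrArg mat hz2
  rw [Units.val_mul, Units.val_neg, Units.val_one] at h
  rw [ht, transpose_add, transpose_one, transpose_root D.two (hR hz) hz2]
  constructor <;>
  · simp only [Matrix.add_mul, Matrix.mul_add, Matrix.neg_mul, Matrix.mul_neg, Matrix.one_mul, Matrix.mul_one, h]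
    module

theorem half_mem_orth {z z' t t' γ : GL ι F} (hz : z ∈ R) (hz' : z' ∈ R) (hz2 : z * z = -1) (hz'2 : z' * z' = -1)
    (ht : mat t = 1 + mat z) (ht' : mat t' = 1 + mat z') (hγ : mat γ = (2 : F)⁻¹ • (mat t * mat t')) :
    γ ∈ orth ι F := mem_orth_of_mul (by
  rw [hγ, transpose_smul, Matrix.smul_mul, Matrix.mul_smul, smul_smul, transpose_mul, Matrix.mul_assoc,
    ← Matrix.mul_assoc (mat t)ᵀ, (tv_transpose_mul D hR hz hz2 ht).1, Matrix.smul_mul, Matrix.one_mul,
    Matrix.mul_smul, (tv_transpose_mul D hR hz' hz'2 ht').1, smul_smul, smul_smul,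
    show (2 : F)⁻¹ * 2⁻¹ * 2 * 2 = 1 by field_simp [D.two], one_smul])

theorem tv_conj_mem_orth {z t g : GL ι F} (hz : z ∈ R) (hz2 : z * z = -1) (ht : mat t = 1 + mat z)
    (hg : g ∈ orth ι F) : t⁻¹ * g * t ∈ orth ι F := mem_orth_of_mul (by
  obtain ⟨h1, -⟩ := tv_transpose_mul D hR hz hz2 ht
  have hinv : mat t⁻¹ = (2 : F)⁻¹ • (mat t)ᵀ := by
    calc mat t⁻¹ = ((2 : F)⁻¹ • ((mat t)ᵀ * mat t)) * mat t⁻¹ := by
          rw [h1, smul_smul, inv_mul_cancel₀ D.two, one_smul, Matrix.one_mul]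
      _ = _ := by rw [Matrix.smul_mul, Matrix.mul_assoc, Units.mul_inv, Matrix.mul_one]
  obtain ⟨-, h1'⟩ := tv_transpose_mul D hR hz hz2 ht
  rw [Units.val_mul, Units.val_mul, hinv]
  simp only [transpose_mul, transpose_smul, transpose_transpose, Matrix.smul_mul, Matrix.mul_smul, smul_smul]
  rw [show (mat t)ᵀ * ((mat g)ᵀ * mat t) * ((mat t)ᵀ * mat g * mat t) =
    (mat t)ᵀ * ((mat g)ᵀ * (mat t * (mat t)ᵀ) * mat g) * mat t by simp only [Matrix.mul_assoc], h1']
  simp only [Matrix.mul_smul, Matrix.smul_mul, Matrix.mul_one, (mem_orth_iff D.two).1 hg, h1, smul_smul]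
  rw [show (2 : F)⁻¹ * 2⁻¹ * (2 * 2) = 1 by field_simp [D.two], one_smul])

variable [Fintype F]

theorem plus_mem_omega (h8 : 8 ≤ Fintype.card ι) {u : GL ι F} (hu : u ∈ R) (hu2 : u * u = 1)
    (hns : u ∉ scalars ι F) : u ∈ omega ι F := by
  obtain ⟨z, hz, hz2, -, hzu⟩ := D.exists_root_comm h8 hu hns
  obtain ⟨U, hU⟩ : ∃ U, U = mat u := ⟨_, rfl⟩
  obtain ⟨Z, hZ⟩ : ∃ Z, Z = mat z := ⟨_, rfl⟩
  have hUU : U * U = 1 := by rw [hU, ← Units.val_mul, hu2]; rfl
  have hZZ : Z * Z = -1 := by rw [hZ, ← Units.val_mul, hz2, Units.val_neg, Units.val_one]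
  have hZU : Z * U = U * Z := by rw [hU, hZ, ← Units.val_mul, hzu]; rfl
  obtain ⟨W, hW⟩ : ∃ W, W = (2 : F)⁻¹ • (1 + U + Z - Z * U) := ⟨_, rfl⟩
  have hWT : Wᵀ = (2 : F)⁻¹ • (1 + U - Z + Z * U) := by
    rw [hW, transpose_smul, transpose_sub, transpose_add, transpose_add, transpose_one, transpose_mul, hU, hZ,
      transpose_involution D.two (hR hu) hu2, transpose_root D.two (hR hz) hz2, ← hU, ← hZ, Matrix.mul_neg, hZU]
    congr 1
    abel
  have hc : ∀ X : Matrix ι ι F, Z * (U * X) = U * (Z * X) := fun X => by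
    rw [← Matrix.mul_assoc, hZU, Matrix.mul_assoc]
  have hUX : ∀ X : Matrix ι ι F, U * (U * X) = X := fun X => by rw [← Matrix.mul_assoc, hUU, Matrix.one_mul]
  have e1 : Wᵀ * W = 1 := by
    rw [hWT, hW]
    simp only [Matrix.smul_mul, Matrix.mul_smul, Matrix.add_mul, Matrix.mul_add, Matrix.sub_mul, Matrix.mul_sub,
      Matrix.one_mul, Matrix.mul_one, Matrix.mul_assoc, hUU, hZZ, hZU, hc, hUX, Matrix.mul_neg]
    match_scalars <;> field_simp [D.two] <;> ring
  have e2 : W * W = U := by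
    rw [hW]
    simp only [Matrix.smul_mul, Matrix.mul_smul, Matrix.add_mul, Matrix.mul_add, Matrix.sub_mul, Matrix.mul_sub,
      Matrix.one_mul, Matrix.mul_one, Matrix.mul_assoc, hUU, hZZ, hZU, hc, hUX, Matrix.mul_neg]
    match_scalars <;> field_simp [D.two] <;> ring
  obtain ⟨w, hw⟩ : ∃ w : GL ι F, mat w = W := ⟨⟨W, Wᵀ, mul_eq_one_comm.1 e1, e1⟩, rfl⟩
  have : u = w * w := Units.ext (by rw [Units.val_mul, hw, e2, hU])
  rw [this]
  exact sq_mem_omega D.two (mem_orth_of_mul (by rw [hw, e1]))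

theorem le_omega (h8 : 8 ≤ Fintype.card ι) : R ≤ omega ι F := by
  intro x hx
  have hroot : ∀ {x}, x ∈ R → x * x = -1 → x ∈ omega ι F := fun {x} hx hx2 => by
    have hns := ns_root D hR hx hx2
    obtain ⟨y, hy, hxy⟩ := D.exists_bit_one hns
    obtain ⟨c, hc, hc2, hcx, -⟩ := D.exists_plus_anti h8 hx hy hns
      (D.ns_of_bit (by rwa [bit_comm] : bit y x = 1)) fun h => by
        have e := D.bit_mul (R.inv_mem hx) hy hx
        rw [bit_eq_zero.2 (scalar_comm h x), bit_eq_zero.2 (Commute.inv_left (Commute.refl x)).eq, zero_add, bit_comm,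
          hxy] at e
        exact zero_ne_one e
    have hcxR := R.mul_mem hc hx
    rw [show x = c * (c * x) by rw [← mul_assoc, hc2, one_mul]]
    refine mul_mem (plus_mem_omega D hR h8 hc hc2 (D.ns_of_bit hcx)) (plus_mem_omega D hR h8 hcxR ?_
      (D.ns_of_bit (y := x) (by rw [D.bit_mul hc hx hx, hcx, bit_self, add_zero])))
    have h := (D.bit_eq_one hc hx).1 hcx
    rw [mul_assoc, ← mul_assoc x, show x * c = -(c * x) by rw [h, neg_neg], neg_mul, mul_assoc c x x, hx2]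
    simp [hc2]
  rcases D.sq x hx with h | h
  · by_cases hs : x ∈ scalars ι F
    · rcases scalar_orth D.two hs (hR hx) with e | e
      · rw [e]; exact one_mem _
      · obtain ⟨y, hy, hyns⟩ := D.exists_nonscalar (by omega : 1 < Fintype.card ι)
        obtain ⟨z, hz, hz2, -, -⟩ := D.exists_root_comm h8 hy hyns
        rw [e, ← hz2]
        exact mul_mem (hroot hz hz2) (hroot hz hz2)
    · exact plus_mem_omega D hR h8 hx h hs
  · exact hroot hx h

/-- Anticommuting roots: the product of scaled transvections lies in `Ω` and carries one to the other. -/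
theorem half_anti (h8 : 8 ≤ Fintype.card ι) {a b t t' γ : GL ι F} (ha : a ∈ R) (hb : b ∈ R) (ha2 : a * a = -1)
    (hb2 : b * b = -1) (hab : bit a b = 1) (ht : mat t = 1 + mat a) (ht' : mat t' = 1 + mat b)
    (hγ : mat γ = (2 : F)⁻¹ • (mat t * mat t')) : γ ∈ omega ι F ∧ γ * a * γ⁻¹ = b := by
  have hab' : a * b = -(b * a) := (D.bit_eq_one ha hb).1 hab
  have hba' : b * a = -(a * b) := by rw [hab', neg_neg]
  refine ⟨?_, ?_⟩
  · have A2 := congrArg mat ha2
    have B2 := congrArg mat hb2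
    have BA := congrArg mat hba'
    simp only [Units.val_mul, Units.val_neg, Units.val_one] at A2 B2 BA
    have BA' : ∀ X : Matrix ι ι F, mat b * (mat a * X) = -(mat a * (mat b * X)) := fun X => by
      rw [← Matrix.mul_assoc, BA, Matrix.neg_mul, Matrix.mul_assoc]
    have AX : ∀ X : Matrix ι ι F, mat a * (mat a * X) = -X := fun X => by
      rw [← Matrix.mul_assoc, A2, Matrix.neg_mul, Matrix.one_mul]
    have h3 : γ * γ * γ = -1 := by
      have h2' : mat γ * mat γ = mat γ - 1 := by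
        rw [hγ, ht, ht']
        simp only [Matrix.smul_mul, Matrix.mul_smul, Matrix.add_mul, Matrix.mul_add, Matrix.one_mul, Matrix.mul_one,
          Matrix.mul_assoc, A2, B2, BA, BA', AX, Matrix.mul_neg, Matrix.neg_mul]
        match_scalars <;> field_simp [D.two] <;> ring
      refine Units.ext ?_
      rw [Units.val_mul, Units.val_mul, Units.val_neg, Units.val_one, h2', Matrix.sub_mul, Matrix.one_mul, h2']
      abel
    have hγ' := half_mem_orth D hR ha hb ha2 hb2 ht ht' hγ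
    have e : γ = -1 * (γ⁻¹ * γ⁻¹) := by rw [← h3]; group
    rw [e]
    exact mul_mem (le_omega D hR h8 D.neg) (sq_mem_omega D.two (inv_mem hγ'))
  · obtain ⟨γ', hγ', s, hs, hγs⟩ := D.exists_half (t * t')
    obtain rfl : γ = γ' := Units.ext (by rw [hγ, hγ', Units.val_mul])
    have e1 : t' * a * t'⁻¹ = b * a := by rw [tv_anti ht' hb2 hba', mul_inv_cancel_right]
    have e2 : t * (b * a) * t⁻¹ = b := by
      have hanti : a * (b * a) = -(b * a * a) := by rw [← mul_assoc, hab', neg_mul]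
      rw [tv_anti ht ha2 hanti, mul_inv_cancel_right, ← mul_assoc, hab', neg_mul, mul_assoc, ha2, mul_neg, mul_one,
        neg_neg]
    rw [hγs, show s * (t * t') * a * (s * (t * t'))⁻¹ = s * (t * (t' * a * t'⁻¹) * t⁻¹) * s⁻¹ by group, e1, e2,
      scalar_comm hs, mul_inv_cancel_right]

/-- Roots are conjugate in `Ω`. -/
theorem exists_conj_root (h8 : 8 ≤ Fintype.card ι) {z z' : GL ι F} (hz : z ∈ R) (hz' : z' ∈ R) (hz2 : z * z = -1)
    (hz'2 : z' * z' = -1) : ∃ g ∈ omega ι F, g * z * g⁻¹ = z' := by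
  have hns := ns_root D hR hz hz2
  have hns' := ns_root D hR hz' hz'2
  have anti : ∀ {a b}, a ∈ R → b ∈ R → a * a = -1 → b * b = -1 → bit a b = 1 →
      ∃ g ∈ omega ι F, g * a * g⁻¹ = b := fun {a b} ha hb ha2 hb2 hab => by
    obtain ⟨t, ht⟩ := D.exists_tv ha2
    obtain ⟨t', ht'⟩ := D.exists_tv hb2
    obtain ⟨γ, hγ, -, -, -⟩ := D.exists_half (t * t')
    rw [Units.val_mul] at hγ
    exact ⟨γ, half_anti D hR h8 ha hb ha2 hb2 hab ht ht' hγ⟩
  by_cases hs : z⁻¹ * z' ∈ scalars ι F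
  · rcases scalar_orth D.two hs (hR (R.mul_mem (R.inv_mem hz) hz')) with e | e
    · exact ⟨1, one_mem _, by rw [inv_mul_eq_one.1 e]; group⟩
    · obtain ⟨y, hy, hzy⟩ := D.exists_anti hz hns
      refine ⟨y, le_omega D hR h8 hy, ?_⟩
      rw [show y * z = -(z * y) by rw [hzy, neg_neg], neg_mul, mul_inv_cancel_right, inv_mul_eq_iff_eq_mul.1 e,
        mul_neg, mul_one]
  rcases (by decide : ∀ c : ZMod 2, c = 0 ∨ c = 1) (bit z z') with h | h
  · obtain ⟨c, hc, hc2, hcz, hcz'⟩ := D.exists_root_anti h8 hz hz' hns hns' hs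
    obtain ⟨g, hg, hg'⟩ := anti hz hc hz2 hc2 (by rwa [bit_comm])
    obtain ⟨g₂, hg₂, hg₂'⟩ := anti hc hz' hc2 hz'2 hcz'
    exact ⟨g₂ * g, mul_mem hg₂ hg, by
      rw [show g₂ * g * z * (g₂ * g)⁻¹ = g₂ * (g * z * g⁻¹) * g₂⁻¹ by group, hg', hg₂']⟩
  · exact anti hz hz' hz2 hz'2 h

/-- `Ω` is an ambient group. -/
theorem ambient (h8 : 8 ≤ Fintype.card ι) : Ambient (omega ι F) R := by
  refine ⟨le_omega D hR h8, fun z hz z' hz' hz2 hz'2 _ _ t t' γ ht ht' hγ => ?_⟩
  obtain ⟨g, hg, hgz⟩ := exists_conj_root D hR h8 hz hz' hz2 hz'2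
  have et : t' = g * t * g⁻¹ := (tv_conj ht hgz ht').symm
  have e : γ = z * ((t⁻¹ * g * t) * g⁻¹) := Units.ext (by
    rw [hγ, et, show z * ((t⁻¹ * g * t) * g⁻¹) = z * t⁻¹ * (g * t * g⁻¹) by group, Units.val_mul (z * t⁻¹),
      ← Matrix.smul_mul]
    congr 1
    calc (2 : F)⁻¹ • mat t = (2 : F)⁻¹ • (mat t * mat t * mat t⁻¹) := by
          rw [Matrix.mul_assoc, Units.mul_inv, Matrix.mul_one]
      _ = _ := by rw [tv_sq ht hz2, Matrix.smul_mul, smul_smul, inv_mul_cancel₀ D.two, one_smul, Units.val_mul])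
  rw [e]
  refine mul_mem (le_omega D hR h8 hz) (mul_mem ?_ (inv_mem hg))
  have h := map_omega (MulAut.conj t⁻¹).toMonoidHom (fun x hx => ?_) hg
  · simpa using h
  · simpa using tv_conj_mem_orth D hR hz hz2 ht hx

end CfsgLib.OrthPow
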