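import Cfsg.Agent.Spinor.Omega
import Cfsg.Prelude.Def_GeometricClasses

/-!
# The orthogonal group of a sum of squares and its commutator subgroup
-/

set_option autoImplicit false
set_option linter.unusedSectionVars false

namespace CfsgLib.OrthPow

open Matrix Cfsg.Geo CfsgLib.Spinor
open scoped commutatorElement

local notation:max "mat" => Units.val

variable {ι κ : Type} [Fintype ι] [DecidableEq ι] [Fintype κ] [DecidableEq κ] {F : Type*} [Field F]

/-- The sum of squares. -/
noncomputable def sqForm (ι : Type) [Fintype ι] [DecidableEq ι] (F : Type*) [Field F] : QuadraticForm F (ι → F) :=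
  QuadraticMap.weightedSumSquares F (1 : ι → F)

/-- Its isometry group. -/
noncomputable def orth (ι : Type) [Fintype ι] [DecidableEq ι] (F : Type*) [Field F] : Subgroup (GL ι F) :=
  Cfsg.isometryGroup F ⇑(sqForm ι F)

/-- The commutator subgroup of the isometry group. -/
noncomputable def omega (ι : Type) [Fintype ι] [DecidableEq ι] (F : Type*) [Field F] : Subgroup (GL ι F) :=
  omegaGL ⇑(sqForm ι F)

theorem sqForm_apply (v : ι → F) : sqForm ι F v = v ⬝ᵥ v := by
  simp [sqForm, QuadraticMap.weightedSumSquares_apply, dotProduct]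

theorem polar_sqForm (u v : ι → F) : QuadraticMap.polar (⇑(sqForm ι F)) u v = 2 * (u ⬝ᵥ v) := by
  simp only [QuadraticMap.polar, sqForm_apply, add_dotProduct, dotProduct_add, dotProduct_comm v u]
  ring

theorem nondegenerate_sqForm (h2 : (2 : F) ≠ 0) : (QuadraticMap.polarBilin (sqForm ι F)).Nondegenerate := by
  have key : ∀ u : ι → F, (∀ v, QuadraticMap.polar (⇑(sqForm ι F)) u v = 0) → u = 0 := fun u h => by
    funext i
    have := h (Pi.single i 1)
    rw [polar_sqForm, dotProduct_single, mul_one] at this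
    exact (mul_eq_zero.1 this).resolve_left h2
  exact ⟨fun u h => key u h, fun u h => key u fun v => by rw [QuadraticMap.polar_comm]; exact h v⟩

theorem mem_orth_of_mul {g : GL ι F} (h : (mat g)ᵀ * mat g = 1) : g ∈ orth ι F := fun v _ => by
  show sqForm ι F (mat g *ᵥ v) = sqForm ι F v
  rw [sqForm_apply, sqForm_apply, dotProduct_mulVec, ← mulVec_transpose, mulVec_mulVec, h, one_mulVec]

theorem dot_of_mem (h2 : (2 : F) ≠ 0) {g : GL ι F} (hg : g ∈ orth ι F) (u v : ι → F) :
    (mat g *ᵥ u) ⬝ᵥ (mat g *ᵥ v) = u ⬝ᵥ v := by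
  have h := CfsgLib.Spinor.polar_mulVec (sqForm ι F) ⟨g, hg⟩ u v
  rw [polar_sqForm, polar_sqForm] at h
  exact mul_left_cancel₀ h2 h

theorem mem_orth_iff (h2 : (2 : F) ≠ 0) {g : GL ι F} : g ∈ orth ι F ↔ (mat g)ᵀ * mat g = 1 := by
  refine ⟨fun hg => ?_, mem_orth_of_mul⟩
  ext i j
  have h := dot_of_mem h2 hg (Pi.single i 1) (Pi.single j 1)
  rw [mulVec_single_one, mulVec_single_one] at h
  simpa [Matrix.mul_apply, dotProduct, Matrix.one_apply, Pi.single_apply, eq_comm] using h

theorem omega_le : omega ι F ≤ orth ι F := by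
  rintro _ ⟨g, -, rfl⟩
  exact g.2

theorem commutator_mem {a b : GL ι F} (ha : a ∈ orth ι F) (hb : b ∈ orth ι F) : ⁅a, b⁆ ∈ omega ι F :=
  ⟨⁅(⟨a, ha⟩ : Cfsg.isometryGroup F ⇑(sqForm ι F)), (⟨b, hb⟩ : Cfsg.isometryGroup F ⇑(sqForm ι F))⁆,
    Subgroup.commutator_mem_commutator (Subgroup.mem_top _) (Subgroup.mem_top _), rfl⟩

/-- A homomorphism between isometry groups carries `Ω` into `Ω`. -/
theorem map_omega (f : GL ι F →* GL κ F) (hf : ∀ g ∈ orth ι F, f g ∈ orth κ F) {g : GL ι F}
    (hg : g ∈ omega ι F) : f g ∈ omega κ F := by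
  obtain ⟨x, hx, rfl⟩ := hg
  let f' : orth ι F →* orth κ F := (f.comp (orth ι F).subtype).codRestrict _ fun x => hf x x.2
  have h : Subgroup.map f' (commutator (orth ι F)) ≤ commutator (orth κ F) := by
    rw [commutator_def, commutator_def, Subgroup.map_commutator]
    exact Subgroup.commutator_mono le_top le_top
  exact ⟨f' x, h ⟨x, hx, rfl⟩, rfl⟩

theorem conj_mem_omega {n g : GL ι F} (hn : n ∈ orth ι F) (hg : g ∈ omega ι F) : n * g * n⁻¹ ∈ omega ι F :=
  map_omega (MulAut.conj n).toMonoidHom (fun _ h => mul_mem (mul_mem hn h) (inv_mem hn)) hg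

variable [Fintype F]

/-- Squares of isometries lie in `Ω`. -/
theorem sq_mem_omega (h2 : (2 : F) ≠ 0) {g : GL ι F} (hg : g ∈ orth ι F) : g * g ∈ omega ι F := by
  obtain ⟨vs, hvs⟩ := exists_isReflProd h2 (nondegenerate_sqForm h2) ⟨g, hg⟩
  refine ⟨⟨g, hg⟩ * ⟨g, hg⟩, mem_omega_of_isReflProd h2 (hvs.mul hvs) ?_ ?_, rfl⟩
  · rw [List.length_append]; exact ⟨_, rfl⟩
  · rw [List.map_append, List.prod_append]; exact ⟨_, rfl⟩

end CfsgLib.OrthPow
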