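import Cfsg.Agent.OrthPow.Basic
import Cfsg.Agent.SympType.Coords
import Cfsg.Agent.SpEight.Standard

/-!
# Orthonormal coordinates adapted to a square root of `-1`
-/

set_option autoImplicit false
set_option linter.unusedSectionVars false

namespace CfsgLib.OrthPow

open Matrix Module Cfsg.Geo CfsgLib.SympType
open CfsgLib.SpEight (unitJ unitJ_sq exists_sq_add_sq)

local notation:max "mat" => Units.val

variable {F : Type*} [Field F] [Fintype F] {η : Type} [Fintype η] [DecidableEq η]

/-- An orthonormal system orthogonal to its image under an isometric square root of `-1`. -/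
theorem exists_orthonormal (h2 : (2 : F) ≠ 0) (B : (η → F) →ₗ[F] (η → F) →ₗ[F] F) (hsym : ∀ u v, B u v = B v u)
    (X : (η → F) →ₗ[F] (η → F)) (hX2 : ∀ u, X (X u) = -u) (hXB : ∀ u v, B (X u) (X v) = B u v) (k : ℕ)
    (U : Submodule F (η → F)) (hU : 2 * k ≤ finrank F U) (hinv : ∀ u ∈ U, X u ∈ U)
    (hnd : ∀ u ∈ U, u ≠ 0 → ∃ v ∈ U, B u v ≠ 0) :
    ∃ e : Fin k → (η → F), (∀ i, e i ∈ U) ∧ (∀ i j, B (e i) (e j) = if i = j then 1 else 0) ∧
      ∀ i j, B (X (e i)) (e j) = 0 := by
  classical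
  have hskew : ∀ u v, B (X u) v = -B u (X v) := fun u v => by
    rw [← hXB u (X v), hX2, map_neg, neg_neg]
  have hself : ∀ u, B (X u) u = 0 := fun u => by
    have h := hskew u u
    rw [hsym u (X u)] at h
    exact (mul_eq_zero.1 (show (2 : F) * B (X u) u = 0 by linear_combination h)).resolve_left h2
  induction k generalizing U with
  | zero => exact ⟨Fin.elim0, fun i => i.elim0, fun i => i.elim0, fun i => i.elim0⟩
  | succ k ih =>
    obtain ⟨a, ha, haa⟩ : ∃ a ∈ U, B a a ≠ 0 := by
      by_contra h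
      push Not at h
      obtain ⟨u, hu, hu0⟩ := Submodule.exists_mem_ne_zero_of_ne_bot (p := U) fun e => by
        rw [e, finrank_bot] at hU; omega
      obtain ⟨v, hv, hv'⟩ := hnd u hu hu0
      refine hv' ?_
      have e := h (u + v) (U.add_mem hu hv)
      simp only [map_add, LinearMap.add_apply, h u hu, h v hv, hsym v u, zero_add, add_zero] at e
      exact (mul_eq_zero.1 (show (2 : F) * B u v = 0 by linear_combination e)).resolve_left h2
    obtain ⟨α, β, hαβ⟩ := exists_sq_add_sq h2 (B a a)⁻¹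
    obtain ⟨e, he⟩ : ∃ e, e = α • a + β • X a := ⟨_, rfl⟩
    have heU : e ∈ U := he ▸ U.add_mem (U.smul_mem _ ha) (U.smul_mem _ (hinv a ha))
    have he1 : B e e = 1 := by
      simp only [he, map_add, map_smul, LinearMap.add_apply, LinearMap.smul_apply, smul_eq_mul, hXB, hself,
        hsym a (X a)]
      linear_combination (B a a) * hαβ + mul_inv_cancel₀ haa
    let f : (η → F) →ₗ[F] F × F := (B (X e)).prod (B e)
    obtain ⟨U', hU'⟩ : ∃ U', U' = U ⊓ LinearMap.ker f := ⟨_, rfl⟩
    have mem' : ∀ {v}, v ∈ U' ↔ v ∈ U ∧ B (X e) v = 0 ∧ B e v = 0 := fun {v} => by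
      simp [hU', f, Prod.ext_iff]
    have hinv' : ∀ u ∈ U', X u ∈ U' := fun u hu => by
      obtain ⟨h1, h3, h4⟩ := mem'.1 hu
      refine mem'.2 ⟨hinv u h1, by rw [hXB, h4], ?_⟩
      rw [← neg_eq_zero, ← hskew, h3]
    have hrank : 2 * k ≤ finrank F U' := by
      have h1 := LinearMap.finrank_range_add_finrank_ker (f.comp U.subtype)
      have h3 : finrank F (LinearMap.ker (f.comp U.subtype)) = finrank F U' := by
        rw [LinearMap.ker_comp, hU', ← Submodule.map_comap_subtype, Submodule.finrank_map_subtype_eq]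
      have h4 : finrank F (LinearMap.range (f.comp U.subtype)) ≤ 2 :=
        (Submodule.finrank_le _).trans_eq (by simp)
      omega
    obtain ⟨E, hEU, hE1, hE2⟩ := ih U' hrank hinv' fun u hu hu0 => by
      obtain ⟨hu1, hu2, hu3⟩ := mem'.1 hu
      obtain ⟨v, hv, hv'⟩ := hnd u hu1 hu0
      refine ⟨v - B (X e) v • X e - B e v • e, mem'.2 ⟨U.sub_mem (U.sub_mem hv (U.smul_mem _ (hinv e heU)))
        (U.smul_mem _ heU), ?_, ?_⟩, ?_⟩
      · simp [map_sub, hXB, he1, hself]
      · simp [map_sub, hsym e (X e), he1, hself]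
      · simp [map_sub, hsym u (X e), hsym u e, hu2, hu3]
        exact hv'
    refine ⟨Fin.cons e E, Fin.cases heU fun i => (mem'.1 (hEU i)).1, fun i j => ?_, fun i j => ?_⟩
    · refine Fin.cases ?_ (fun i => ?_) i <;> refine Fin.cases ?_ (fun j => ?_) j
      · simpa using he1
      · simpa [(Fin.succ_ne_zero j).symm] using (mem'.1 (hEU j)).2.2
      · rw [if_neg (Fin.succ_ne_zero i), Fin.cons_succ, Fin.cons_zero, hsym]
        exact (mem'.1 (hEU i)).2.2
      · simpa using hE1 i j
    · refine Fin.cases ?_ (fun i => ?_) i <;> refine Fin.cases ?_ (fun j => ?_) j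
      · simpa using hself e
      · simpa using (mem'.1 (hEU j)).2.1
      · rw [Fin.cons_succ, Fin.cons_zero, hskew, hsym, (mem'.1 (hEU i)).2.1, neg_zero]
      · simpa using hE2 i j

/-- Coordinates in which the form is a sum of squares and the square root of `-1` is `J`. -/
theorem exists_orth_frame (h2 : (2 : F) ≠ 0) {m : ℕ} (hη : Fintype.card η = m + m) (G : Matrix η η F)
    (hGs : Gᵀ = G) (hGd : ∀ u : η → F, (∀ v, u ⬝ᵥ (G *ᵥ v) = 0) → u = 0) {x : GL η F} (hx2 : x * x = -1)
    (hxG : (mat x)ᵀ * G * mat x = G) :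
    ∃ (M : Matrix η (Fin m ⊕ Fin m) F) (N : Matrix (Fin m ⊕ Fin m) η F) (hMN : M * N = 1) (hNM : N * M = 1),
      Mᵀ * G * M = 1 ∧ coordEquiv M N hMN hNM (unitJ m F) = x := by
  classical
  let B : (η → F) →ₗ[F] (η → F) →ₗ[F] F := Matrix.toBilin' G
  have hB : ∀ u v, B u v = u ⬝ᵥ (G *ᵥ v) := fun u v => Matrix.toBilin'_apply' G u v
  let X : (η → F) →ₗ[F] (η → F) := Matrix.toLin' (mat x)
  have hX : ∀ u, X u = mat x *ᵥ u := fun u => toLin'_apply _ _
  have hxx : ∀ u, mat x *ᵥ (mat x *ᵥ u) = -u := fun u => by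
    rw [mulVec_mulVec, ← Units.val_mul, hx2, Units.val_neg, Units.val_one, neg_mulVec, one_mulVec]
  have hsym : ∀ u v, B u v = B v u := fun u v => by
    rw [hB, hB, dotProduct_mulVec, ← mulVec_transpose, hGs, dotProduct_comm]
  have hXB : ∀ u v, B (X u) (X v) = B u v := fun u v => by
    rw [hB, hB, hX, hX, dotProduct_comm (mat x *ᵥ u), dotProduct_mulVec, ← mulVec_transpose, dotProduct_comm,
      mulVec_mulVec, mulVec_mulVec, hxG]
  obtain ⟨e, -, h1, h3⟩ := exists_orthonormal h2 B hsym X (fun u => by rw [hX, hX, hxx]) hXB m ⊤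
    (by rw [finrank_top, finrank_pi]; omega) (fun _ _ => trivial) fun u _ hu0 => by
      by_contra h
      push Not at h
      exact hu0 (hGd u fun v => (hB u v).symm.trans (h v trivial))
  let M : Matrix η (Fin m ⊕ Fin m) F := Matrix.of fun k s => Sum.elim e (fun i => mat x *ᵥ e i) s k
  have hMl : ∀ s, M *ᵥ Pi.single s 1 = Sum.elim e (fun i => mat x *ᵥ e i) s := fun s => by
    rw [mulVec_single_one]; rfl
  have hMG : Mᵀ * G * M = 1 := by
    ext s t
    have : (Mᵀ * G * M) s t = B (Sum.elim e (fun i => mat x *ᵥ e i) s) (Sum.elim e (fun i => mat x *ᵥ e i) t) := by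
      rw [hB]
      simp only [Matrix.mul_apply, dotProduct, mulVec, M, Matrix.of_apply, transpose_apply, Finset.sum_mul,
        Finset.mul_sum]
      rw [Finset.sum_comm]
      simp only [mul_assoc]
    rw [this]
    rcases s with i | i <;> rcases t with j | j <;> simp only [Sum.elim_inl, Sum.elim_inr, ← hX]
    · rw [h1]; simp [Matrix.one_apply]
    · rw [hsym, h3]; simp
    · rw [h3]; simp
    · rw [hXB, h1]; simp [Matrix.one_apply]
  let eq : η ≃ Fin m ⊕ Fin m := Fintype.equivOfCardEq (by simp [hη])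
  have hNM : Mᵀ * G * M = 1 := hMG
  have hMN : M * (Mᵀ * G) = 1 := (Matrix.mul_eq_one_comm_of_equiv eq.symm).1 hNM
  refine ⟨M, Mᵀ * G, hMN, hNM, hMG, Units.ext ?_⟩
  suffices h : mat x * M = M * mat (unitJ m F) by
    rw [coordEquiv_val, ← h, Matrix.mul_assoc, hMN, Matrix.mul_one]
  refine Matrix.ext_of_mulVec_single fun s => ?_
  rw [← mulVec_mulVec, ← mulVec_mulVec, hMl]
  rcases s with i | i
  · have : mat (unitJ m F) *ᵥ Pi.single (Sum.inl i) 1 = Pi.single (Sum.inr i) 1 := by
      funext s; rcases s with j | j <;> simp [unitJ, Matrix.J, Pi.single_apply, Matrix.one_apply]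
    rw [this, hMl]; rfl
  · have : mat (unitJ m F) *ᵥ Pi.single (Sum.inr i) 1 = -Pi.single (Sum.inl i) 1 := by
      funext s; rcases s with j | j <;> simp [unitJ, Matrix.J, Pi.single_apply, Matrix.one_apply]
    rw [this, mulVec_neg, hMl]
    exact hxx _

end CfsgLib.OrthPow
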