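import Cfsg.Agent.OrthPow.Basic
import Cfsg.Agent.OrthMax.UnitaryField
import Cfsg.Agent.OrthMax.SingularPairMax
import Cfsg.Agent.SpEight.Theta
import Cfsg.Agent.AutPSU.GU
import Cfsg.Agent.Linear.Perfect
import Cfsg.Agent.InvNorm.Hermitian
import Cfsg.Agent.FieldEmb.Basic

/-!
# The normaliser of a complex structure in `Ω` of a sum of squares

`omega_le_of_normaliser_unitJ`: over a subgroup of `Ω` containing the normaliser of `J` and an element moving `±J`
lies `Ω`. `kerDet_le_commutator_linear`, `kerDet_le_commutator_unitary`: the determinant one part of the centraliser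
of `J` is perfect.
-/

set_option autoImplicit false
set_option linter.unusedSectionVars false

namespace CfsgLib.OrthPow

open Matrix Module Cfsg.Geo
open scoped commutatorElement

local notation:max "mat" => Units.val

variable {F : Type*} [Field F] {m : ℕ}

local notation "ι" => (Fin m ⊕ Fin m)
local notation "𝕁" => SpEight.unitJ m F

theorem mat_unitJ : mat (𝕁) = Matrix.J (Fin m) F := rfl

theorem dot_mulVec_left {κ : Type} [Fintype κ] (k : Matrix κ κ F) (u v : κ → F) :
    (k *ᵥ u) ⬝ᵥ v = u ⬝ᵥ (kᵀ *ᵥ v) := by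
  rw [dotProduct_comm, dotProduct_mulVec, ← mulVec_transpose, dotProduct_comm]

/-- The algebra spanned by `1` and `J`. -/
noncomputable def jAlg (m : ℕ) (F : Type*) [Field F] : Subalgebra F (Matrix (Fin m ⊕ Fin m) (Fin m ⊕ Fin m) F) where
  carrier := {k | ∃ p q : F, k = p • 1 + q • Matrix.J (Fin m) F}
  mul_mem' := by
    rintro _ _ ⟨p, q, rfl⟩ ⟨r, s, rfl⟩
    refine ⟨p * r - q * s, p * s + q * r, ?_⟩
    simp only [Matrix.mul_add, Matrix.add_mul, Matrix.smul_mul, Matrix.mul_smul, Matrix.one_mul, Matrix.mul_one,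
      Matrix.J_squared, smul_smul, smul_add, smul_neg, sub_smul, add_smul]
    module
  add_mem' := by
    rintro _ _ ⟨p, q, rfl⟩ ⟨r, s, rfl⟩
    exact ⟨p + r, q + s, by module⟩
  algebraMap_mem' r := ⟨r, 0, by rw [zero_smul, add_zero, Algebra.algebraMap_eq_smul_one]⟩

theorem mem_jAlg {k : Matrix ι ι F} : k ∈ jAlg m F ↔ ∃ p q : F, k = p • 1 + q • Matrix.J (Fin m) F := Iff.rfl

theorem jAlg_indep [NeZero m] {p q : F} (h : p • (1 : Matrix ι ι F) + q • Matrix.J (Fin m) F = 0) :
    p = 0 ∧ q = 0 := by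
  refine ⟨?_, ?_⟩
  · simpa [Matrix.J] using congrFun (congrFun h (Sum.inl 0)) (Sum.inl 0)
  · simpa [Matrix.J] using congrFun (congrFun h (Sum.inr 0)) (Sum.inl 0)

theorem isFieldSubalgebra_jAlg [NeZero m] (hns : ¬ IsSquare (-1 : F)) : IsFieldSubalgebra 2 (jAlg m F) := by
  refine ⟨?_, ?_, ?_⟩
  · rintro _ ⟨p, q, rfl⟩ _ ⟨r, s, rfl⟩
    simp only [Matrix.mul_add, Matrix.add_mul, Matrix.smul_mul, Matrix.mul_smul, Matrix.one_mul, Matrix.mul_one,
      Matrix.J_squared, smul_smul, smul_add, smul_neg]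
    module
  · rintro _ ⟨p, q, rfl⟩ hne
    have hnorm : p * p + q * q ≠ 0 := by
      intro h0
      by_cases hq : q = 0
      · subst hq
        rw [mul_zero, add_zero, mul_self_eq_zero] at h0
        subst h0
        simp at hne
      · refine hns ⟨p / q, ?_⟩
        field_simp
        linear_combination -h0
    refine ⟨(p / (p * p + q * q)) • 1 + (-(q / (p * p + q * q))) • Matrix.J (Fin m) F, ⟨_, _, rfl⟩, ?_⟩
    have e1 : p * (p / (p * p + q * q)) + q * (q / (p * p + q * q)) = 1 := by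
      rw [mul_div, mul_div, ← add_div, div_self hnorm]
    simp only [Matrix.mul_add, Matrix.add_mul, Matrix.smul_mul, Matrix.mul_smul, Matrix.one_mul, Matrix.mul_one,
      Matrix.J_squared, Matrix.mul_neg, smul_smul, smul_add, smul_neg, neg_smul]
    linear_combination (norm := module) congrArg (fun t : F => t • (1 : Matrix ι ι F)) e1
  · let f : (F × F) →ₗ[F] Matrix ι ι F :=
      (LinearMap.fst F F F).smulRight 1 + (LinearMap.snd F F F).smulRight (Matrix.J (Fin m) F)
    have hf : Function.Injective f := LinearMap.ker_eq_bot.1 ((Submodule.eq_bot_iff _).2 fun x hx => by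
      obtain ⟨h1, h2⟩ := jAlg_indep (by simpa [f] using hx : x.1 • (1 : Matrix ι ι F) + x.2 • Matrix.J (Fin m) F = 0)
      exact Prod.ext h1 h2)
    have hr : LinearMap.range f = Subalgebra.toSubmodule (jAlg m F) := by
      ext k
      rw [LinearMap.mem_range, Subalgebra.mem_toSubmodule, mem_jAlg]
      simp [f, eq_comm]
    show finrank F (Subalgebra.toSubmodule (jAlg m F)) = 2
    rw [← hr, LinearMap.finrank_range_of_inj hf, Module.finrank_prod, Module.finrank_self]

theorem jAlg_transpose (p q : F) :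
    (p • (1 : Matrix ι ι F) + q • Matrix.J (Fin m) F)ᵀ = p • 1 + (-q) • Matrix.J (Fin m) F := by
  rw [transpose_add, transpose_smul, transpose_smul, transpose_one, Matrix.J_transpose, smul_neg, neg_smul]

theorem adjointClosed_jAlg : IsAdjointClosedFor (QuadraticMap.polar ⇑(sqForm ι F)) (jAlg m F) := by
  rintro k ⟨p, q, rfl⟩
  refine ⟨p • 1 + (-q) • Matrix.J (Fin m) F, ⟨_, _, rfl⟩, fun u v => ?_⟩
  rw [polar_sqForm, polar_sqForm, dot_mulVec_left, jAlg_transpose]

theorem not_selfAdjoint_jAlg [NeZero m] (h2 : (2 : F) ≠ 0) :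
    ¬ IsSelfAdjointFor (QuadraticMap.polar ⇑(sqForm ι F)) (jAlg m F) := by
  intro h
  have hJ : Matrix.J (Fin m) F ∈ jAlg m F := ⟨0, 1, by rw [zero_smul, zero_add, one_smul]⟩
  have e := h _ hJ (Pi.single (Sum.inl 0) 1) (Pi.single (Sum.inr 0) 1)
  rw [polar_sqForm, polar_sqForm, dot_mulVec_left, Matrix.J_transpose, neg_mulVec, dotProduct_neg] at e
  simp [Matrix.J] at e
  exact mul_ne_zero h2 h2 (by linear_combination e)

theorem similitude_jAlg : ∀ k ∈ jAlg m F, ∃ c : F, ∀ v, sqForm ι F (k *ᵥ v) = c * sqForm ι F v := by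
  rintro k ⟨p, q, rfl⟩
  refine ⟨p * p + q * q, fun v => ?_⟩
  rw [sqForm_apply, sqForm_apply, dot_mulVec_left, mulVec_mulVec, jAlg_transpose]
  simp only [Matrix.mul_add, Matrix.add_mul, Matrix.smul_mul, Matrix.mul_smul, Matrix.one_mul, Matrix.mul_one,
    Matrix.J_squared, smul_smul, smul_add, smul_neg, neg_smul, neg_mul, neg_neg]
  rw [show (p * p) • (1 : Matrix ι ι F) + -((p * q) • Matrix.J (Fin m) F) +
      ((q * p) • Matrix.J (Fin m) F + (q * q) • 1) = (p * p + q * q) • 1 by rw [mul_comm q p]; module,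
    smul_mulVec, one_mulVec, dotProduct_smul, smul_eq_mul]

/-- Isometries normalising the algebra fix `±J`. -/
theorem conj_unitJ_of_normalizer [NeZero m] (h2 : (2 : F) ≠ 0) (hns : ¬ IsSquare (-1 : F)) {g : GL ι F}
    (hg : g ∈ subalgebraNormalizer (jAlg m F)) : g * 𝕁 * g⁻¹ = 𝕁 ∨ g * 𝕁 * g⁻¹ = -𝕁 := by
  obtain ⟨p, q, hpq⟩ := (hg (Matrix.J (Fin m) F)).1 ⟨0, 1, by rw [zero_smul, zero_add, one_smul]⟩
  have hv : mat (g * 𝕁 * g⁻¹) = p • 1 + q • Matrix.J (Fin m) F := hpq
  have hsq : (g * 𝕁 * g⁻¹) * (g * 𝕁 * g⁻¹) = -1 := by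
    rw [show (g * 𝕁 * g⁻¹) * (g * 𝕁 * g⁻¹) = g * (𝕁 * 𝕁) * g⁻¹ by group, SpEight.unitJ_sq]
    simp
  have e := congrArg Units.val hsq
  rw [Units.val_mul, hv, Units.val_neg, Units.val_one] at e
  simp only [Matrix.mul_add, Matrix.add_mul, Matrix.smul_mul, Matrix.mul_smul, Matrix.one_mul, Matrix.mul_one,
    Matrix.J_squared, smul_smul, smul_add, smul_neg] at e
  obtain ⟨e1, e2⟩ := jAlg_indep (m := m) (p := p * p - q * q + 1) (q := p * q + q * p)
    (by linear_combination (norm := module) e)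
  rcases mul_eq_zero.1 ((mul_eq_zero.1 (by linear_combination e2 : (2 : F) * (p * q) = 0)).resolve_left h2) with
    h | h
  · subst h
    rcases mul_self_eq_one_iff.1 (by linear_combination -e1 : q * q = 1) with rfl | rfl
    · exact Or.inl (Units.ext (by rw [hv, zero_smul, zero_add, one_smul]; rfl))
    · exact Or.inr (Units.ext (by rw [hv, zero_smul, zero_add, neg_one_smul]; rfl))
  · subst h
    exact absurd ⟨p, by linear_combination -e1⟩ hns

/-- Eigenvectors of `J`. -/
noncomputable def eig (m : ℕ) (e : F) : Submodule F (Fin m ⊕ Fin m → F) :=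
  LinearMap.ker (Matrix.mulVecLin (Matrix.J (Fin m) F) - e • LinearMap.id)

theorem mem_eig {e : F} {v : ι → F} : v ∈ eig m e ↔ Matrix.J (Fin m) F *ᵥ v = e • v := by
  simp [eig, LinearMap.mem_ker, sub_eq_zero]

theorem J_mulVec_elim (x y : Fin m → F) : Matrix.J (Fin m) F *ᵥ Sum.elim x y = Sum.elim (-y) x := by
  simp [Matrix.J, fromBlocks_mulVec, neg_mulVec]

theorem finrank_eig {e : F} (he : e * e = -1) : finrank F (eig m e) = m := by
  let f : (Fin m → F) →ₗ[F] (ι → F) :=
    { toFun := fun x => Sum.elim x (-e • x)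
      map_add' := fun x y => by funext i; cases i <;> simp [add_comm]
      map_smul' := fun c x => by funext i; cases i <;> simp [mul_left_comm] }
  have hf : Function.Injective f := fun x y h => funext fun i => congrFun h (Sum.inl i)
  have hr : LinearMap.range f = eig m e := by
    ext v
    rw [LinearMap.mem_range, mem_eig, ← Sum.elim_comp_inl_inr v, J_mulVec_elim]
    constructor
    · rintro ⟨x, hx⟩
      rw [← Sum.elim_comp_inl_inr v] at hx
      have hl : x = v ∘ Sum.inl := funext fun i => congrFun hx (Sum.inl i)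
      have hr : -e • x = v ∘ Sum.inr := funext fun i => congrFun hx (Sum.inr i)
      rw [← hl, ← hr]
      funext i
      cases i with
      | inl i => simp
      | inr i =>
        simp
        linear_combination (x i) * he
    · intro h
      refine ⟨v ∘ Sum.inl, ?_⟩
      funext i
      cases i with
      | inl i => simp [f]
      | inr i =>
        have := congrFun h (Sum.inl i)
        simp at this
        simp [f]
        linear_combination this
  rw [← hr, LinearMap.finrank_range_of_inj hf, Module.finrank_pi, Fintype.card_fin]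

theorem sqForm_eig (h2 : (2 : F) ≠ 0) {e : F} (he : e * e = -1) {v : ι → F} (hv : v ∈ eig m e) :
    sqForm ι F v = 0 := by
  have h := mem_eig.1 hv
  have h1 : (Matrix.J (Fin m) F *ᵥ v) ⬝ᵥ (Matrix.J (Fin m) F *ᵥ v) = v ⬝ᵥ v := by
    rw [dot_mulVec_left, mulVec_mulVec, Matrix.J_transpose, Matrix.neg_mul, Matrix.J_squared, neg_neg, one_mulVec]
  rw [h, smul_dotProduct, dotProduct_smul, smul_eq_mul, smul_eq_mul, ← mul_assoc, he] at h1
  rw [sqForm_apply]
  exact (mul_eq_zero.1 (by linear_combination -h1 : (2 : F) * (v ⬝ᵥ v) = 0)).resolve_left h2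

theorem singularPair_eig (h2 : (2 : F) ≠ 0) {c : F} (hc : c * c = -1) :
    OrthMax.IsSingularPair (sqForm ι F) (eig m c) (eig m (-c)) := by
  have hc' : (-c) * (-c) = -1 := by rw [neg_mul_neg, hc]
  refine ⟨fun x hx => sqForm_eig h2 hc hx, fun x hx => sqForm_eig h2 hc' hx, ?_, ?_, ?_⟩
  · refine (Submodule.eq_bot_iff _).2 fun v hv => ?_
    obtain ⟨a, b⟩ := Submodule.mem_inf.1 hv
    have e : (2 * c) • v = 0 := by
      linear_combination (norm := module) (mem_eig.1 b) - (mem_eig.1 a)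
    exact (smul_eq_zero.1 e).resolve_left (mul_ne_zero h2 fun h => by simp [h] at hc)
  · rw [finrank_eig hc, Fintype.card_sum, Fintype.card_fin, two_mul]
  · rw [finrank_eig hc', Fintype.card_sum, Fintype.card_fin, two_mul]

/-- Isometries permuting the two eigenspaces fix `±J`. -/
theorem conj_unitJ_of_stabilizer (h2 : (2 : F) ≠ 0) {c : F} (hc : c * c = -1) {g : GL ι F}
    (hg : g ∈ decompositionStabilizer ![eig m c, eig m (-c)]) : g * 𝕁 * g⁻¹ = 𝕁 ∨ g * 𝕁 * g⁻¹ = -𝕁 := by
  obtain ⟨σ, hσ⟩ := hg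
  obtain ⟨s, hs⟩ : ∃ s : Fin 2 → F, s = ![c, -c] := ⟨_, rfl⟩
  obtain ⟨ε, hε, hεs⟩ : ∃ ε : F, (ε = 1 ∨ ε = -1) ∧ ∀ i, s (σ i) = ε * s i := by
    by_cases h0 : σ 0 = 0
    · have h1 : σ 1 = 1 := by
        have : σ 1 ≠ σ 0 := fun h => absurd (σ.injective h) (by decide)
        rw [h0] at this
        exact Fin.eq_one_of_ne_zero _ this
      exact ⟨1, Or.inl rfl, Fin.forall_fin_two.2 ⟨by rw [h0, one_mul], by rw [h1, one_mul]⟩⟩
    · have h0' : σ 0 = 1 := Fin.eq_one_of_ne_zero _ h0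
      have h1 : σ 1 = 0 := by
        by_contra h
        exact absurd (σ.injective (show σ 1 = σ 0 by rw [h0', Fin.eq_one_of_ne_zero _ h])) (by decide)
      exact ⟨-1, Or.inr rfl, Fin.forall_fin_two.2 ⟨by rw [h0', hs]; simp, by rw [h1, hs]; simp⟩⟩
  have hD : ∀ i, (![eig m c, eig m (-c)] : Fin 2 → _) i = eig m (s i) := by
    rw [hs]; exact Fin.forall_fin_two.2 ⟨rfl, rfl⟩
  have key : ∀ i, ∀ v ∈ eig m (s i),
      Matrix.J (Fin m) F *ᵥ (mat g *ᵥ v) = ε • (mat g *ᵥ (Matrix.J (Fin m) F *ᵥ v)) := by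
    intro i v hv
    have h1 : mat g *ᵥ v ∈ eig m (s (σ i)) := by
      rw [← hD, ← hσ i, hD]
      exact ⟨v, hv, by rw [Matrix.toLin'_apply]⟩
    rw [mem_eig.1 hv, mem_eig.1 h1, mulVec_smul, smul_smul, hεs]
  have hall : Matrix.J (Fin m) F * mat g = ε • (mat g * Matrix.J (Fin m) F) := Matrix.ext_iff_mulVec.2 fun v => by
    obtain ⟨x, hx, y, hy, rfl⟩ := (singularPair_eig (m := m) h2 hc).exists_decomp v
    have hx' := key 0 x (by rw [← hD]; exact hx)
    have hy' := key 1 y (by rw [← hD]; exact hy)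
    simp only [← mulVec_mulVec, smul_mulVec, mulVec_add, hx', hy']
  rcases hε with rfl | rfl
  · left
    rw [mul_inv_eq_iff_eq_mul]
    exact Units.ext (by simpa [mat_unitJ] using hall.symm)
  · right
    rw [mul_inv_eq_iff_eq_mul]
    refine Units.ext ?_
    rw [Units.val_mul, Units.val_mul, Units.val_neg, mat_unitJ, Matrix.neg_mul, hall, neg_one_smul, neg_neg]

variable [Fintype F]

/-- Above the normaliser of `J` in `Ω` there is only `Ω`. -/
theorem omega_le_of_normaliser_unitJ (h2 : (2 : F) ≠ 0) (hm : Even m) (h8 : 8 ≤ m) {H : Subgroup (GL ι F)}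
    (hH : H ≤ omega ι F) (hN : ∀ g ∈ omega ι F, (g * 𝕁 * g⁻¹ = 𝕁 ∨ g * 𝕁 * g⁻¹ = -𝕁) → g ∈ H) {n : GL ι F}
    (hn : n ∈ H) (h1 : n * 𝕁 * n⁻¹ ≠ 𝕁) (h2' : n * 𝕁 * n⁻¹ ≠ -𝕁) : omega ι F ≤ H := by
  have hcard : Fintype.card ι = m + m := by simp
  have : NeZero m := ⟨by omega⟩
  have finish : ∀ N : Subgroup (GL ι F), IsMaximalIn (omega ι F) (N ⊓ omega ι F) →
      (∀ g ∈ N, g * 𝕁 * g⁻¹ = 𝕁 ∨ g * 𝕁 * g⁻¹ = -𝕁) → omega ι F ≤ H := by
    intro N hmax hN'
    rcases hmax.2 H (fun g hg => hN g hg.2 (hN' g hg.1)) hH with e | e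
    · rw [e] at hn
      rcases hN' n hn.1 with h | h
      · exact absurd h h1
      · exact absurd h h2'
    · exact e.ge
  by_cases hsq : IsSquare (-1 : F)
  · obtain ⟨c, hc⟩ := hsq
    refine finish _ (OrthMax.isMaximalIn_singular_pair (D := ![eig m c, eig m (-c)]) (nondegenerate_sqForm h2)
      (by omega) (singularPair_eig h2 hc.symm) ?_) fun g hg => conj_unitJ_of_stabilizer h2 hc.symm hg
    show Even (finrank F (eig m c))
    rw [finrank_eig hc.symm]
    exact hm
  · exact finish _ (OrthMax.isMaximalIn_unitary_field (nondegenerate_sqForm h2) (by omega)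
      (isFieldSubalgebra_jAlg hsq) adjointClosed_jAlg (not_selfAdjoint_jAlg h2) similitude_jAlg)
      fun g hg => conj_unitJ_of_normalizer h2 hsq hg

omit [Fintype F]

variable {L : Type*} [Field L] {ψ : F →+* L} {c : L}

/-- Transport of perfectness along `θ`. -/
theorem kerDet_le_commutator (hc : c * c = -1) (h2 : (2 : F) ≠ 0) {P : Type*} [Group P]
    (hP : commutator P = ⊤) (f : P →* GL (Fin m) L) (hdet : ∀ x, Matrix.GeneralLinearGroup.det (f x) = 1)
    (hmem : ∀ g : ↥(SpEight.centJ m F), Matrix.GeneralLinearGroup.det (SpEight.theta ψ c hc g) = 1 →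
      SpEight.theta ψ c hc g ∈ f.range)
    (hlift : ∀ x, ∃ g : ↥(SpEight.centJ m F), SpEight.theta ψ c hc g = f x) :
    (Matrix.GeneralLinearGroup.det.comp (SpEight.theta (m := m) ψ c hc)).ker ≤
      ⁅(Matrix.GeneralLinearGroup.det.comp (SpEight.theta (m := m) ψ c hc)).ker,
        (Matrix.GeneralLinearGroup.det.comp (SpEight.theta (m := m) ψ c hc)).ker⁆ := by
  rw [← Subgroup.map_le_map_iff_of_injective (SpEight.theta_injective (ψ := ψ) hc h2), Subgroup.map_commutator]
  have e : Subgroup.map (SpEight.theta ψ c hc)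
      (Matrix.GeneralLinearGroup.det.comp (SpEight.theta (m := m) ψ c hc)).ker = f.range := by
    refine le_antisymm ?_ ?_
    · rintro _ ⟨g, hg, rfl⟩
      exact hmem g hg
    · rintro _ ⟨x, rfl⟩
      obtain ⟨g, hg⟩ := hlift x
      exact ⟨g, by rw [SetLike.mem_coe, MonoidHom.mem_ker, MonoidHom.comp_apply, hg, hdet], hg⟩
  rw [e, MonoidHom.range_eq_map, ← Subgroup.map_commutator, ← commutator_def, hP]

/-- The determinant one part of the centraliser of `J` is perfect, split case. -/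
theorem kerDet_le_commutator_linear {c : F} (hc : c * c = -1) (h2 : (2 : F) ≠ 0) (hm : 4 ≤ m) :
    (Matrix.GeneralLinearGroup.det.comp (SpEight.theta (m := m) (RingHom.id F) c hc)).ker ≤
      ⁅(Matrix.GeneralLinearGroup.det.comp (SpEight.theta (m := m) (RingHom.id F) c hc)).ker,
        (Matrix.GeneralLinearGroup.det.comp (SpEight.theta (m := m) (RingHom.id F) c hc)).ker⁆ := by
  have hc0 : c ≠ 0 := fun e => by simp [e] at hc
  refine kerDet_le_commutator hc h2 (CfsgLib.Linear.commutator_SL_eq_top (by rw [Fintype.card_fin]; omega))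
    (Matrix.SpecialLinearGroup.toGL) (fun x => Units.ext (by simp)) (fun g hg => ?_) fun x => ?_
  · exact ⟨⟨_, congrArg Units.val hg⟩, Units.ext rfl⟩
  · obtain ⟨a, ha⟩ : ∃ a, a = Matrix.SpecialLinearGroup.toGL x := ⟨_, rfl⟩
    rw [← ha]
    refine SpEight.exists_lift (ψ := RingHom.id F) hc h2 (A := (2 : F)⁻¹ • (mat a + (mat a⁻¹)ᵀ))
      (B := (2 * c)⁻¹ • (mat a - (mat a⁻¹)ᵀ)) (a' := (mat a⁻¹)ᵀ) ?_ ?_ ?_
    · rw [← transpose_mul, Units.inv_mul, transpose_one]
    all_goals
      ext i j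
      simp only [Matrix.add_apply, Matrix.map_apply, Matrix.smul_apply, smul_eq_mul, Matrix.sub_apply,
        RingHom.id_apply]
      field_simp
      ring

variable [Fintype F] [Fintype L]

/-- The determinant one part of the centraliser of `J` is perfect, `p ≡ 3 (mod 4)`. -/
theorem kerDet_le_commutator_unitary {p : ℕ} (_hp : p.Prime) (hF : Fintype.card F = p) (hp4 : p % 4 = 3)
    (hL : Fintype.card L = p ^ 2) (hc : c * c = -1) (hm : 4 ≤ m) :
    (Matrix.GeneralLinearGroup.det.comp (SpEight.theta (m := m) ψ c hc)).ker ≤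
      ⁅(Matrix.GeneralLinearGroup.det.comp (SpEight.theta (m := m) ψ c hc)).ker,
        (Matrix.GeneralLinearGroup.det.comp (SpEight.theta (m := m) ψ c hc)).ker⁆ := by
  classical
  have h2 : (2 : F) ≠ 0 := CfsgLib.MaxSub.two_ne_zero_of_odd (by rw [hF]; exact Nat.odd_iff.2 (by omega))
  have h2L : (2 : L) ≠ 0 := by rw [← map_ofNat ψ 2]; exact (map_ne_zero _).2 h2
  have hc0 : c ≠ 0 := fun e => by simp [e] at hc
  obtain ⟨σ, hσ, hσσ⟩ := FieldEmb.exists_conj hL
  have hσψ : ∀ x, σ (ψ x) = ψ x := fun x => by rw [hσ, ← map_pow, ← hF, FiniteField.pow_card]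
  have hσc : σ c = -c := by
    obtain ⟨k, hk⟩ : ∃ k, p = 2 * (2 * k + 1) + 1 := ⟨p / 4, by omega⟩
    rw [hσ, hk, pow_succ, pow_mul, pow_two, hc, Odd.neg_one_pow ⟨k, rfl⟩, neg_one_mul]
  have hmap : ∀ (A B : Matrix (Fin m) (Fin m) F),
      (A.map ψ + c • B.map ψ).map σ = A.map ψ + (-c) • B.map ψ :=
    fun A B => by ext i j; simp [hσψ, hσc]
  refine kerDet_le_commutator hc h2
    (CfsgLib.AutPSU.commutator_SU_eq_top (n := m) hL (by omega) fun h => by omega)
    ((Matrix.SpecialLinearGroup.toGL).comp (Cfsg.SU m L p).subtype) (fun x => Units.ext (by simp))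
    (fun g hg => ?_) fun x => ?_
  · have hgu : SpEight.theta ψ c hc g ∈ Cfsg.GU m L p := by
      refine (InvNorm.mem_GU_iff hσ hσσ _).2 ?_
      rw [InvNorm.tau, SpEight.theta_val, SpEight.thetaMat, hmap]
      have e := congrArg Matrix.transpose (SpEight.theta_transpose (ψ := ψ) hc g)
      rw [transpose_mul, transpose_transpose, transpose_one] at e
      exact e
    exact ⟨⟨⟨_, congrArg Units.val hg⟩, hgu⟩, Units.ext rfl⟩
  · obtain ⟨a, ha⟩ : ∃ a, a = Matrix.SpecialLinearGroup.toGL (x : Matrix.SpecialLinearGroup (Fin m) L) := ⟨_, rfl⟩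
    show ∃ g, SpEight.theta ψ c hc g = Matrix.SpecialLinearGroup.toGL (x : Matrix.SpecialLinearGroup (Fin m) L)
    rw [← ha]
    have hgu : a ∈ Cfsg.GU m L p := ha ▸ x.2
    have hU := (InvNorm.mem_GU_iff hσ hσσ _).1 hgu
    have hrange : ∀ x : L, σ x = x → ∃ y, ψ y = x := fun x hx => by
      obtain ⟨y, hy⟩ := (FieldEmb.mem_range_iff ψ hF x).2 (by rw [← hσ, hx])
      exact ⟨y, hy⟩
    have hA : ∀ i j, ∃ y, ψ y = (mat a i j + σ (mat a i j)) / 2 := fun i j =>
      hrange _ (by rw [map_div₀, map_add, hσσ, map_ofNat, add_comm])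
    have hB : ∀ i j, ∃ y, ψ y = (mat a i j - σ (mat a i j)) / (2 * c) := fun i j =>
      hrange _ (by
        rw [map_div₀, map_sub, hσσ, map_mul, map_ofNat, hσc, mul_neg, div_neg, ← neg_div, neg_sub])
    choose A hA using hA
    choose B hB using hB
    refine SpEight.exists_lift (ψ := ψ) hc h2 (A := Matrix.of A) (B := Matrix.of B) (a' := (mat a).map σ) ?_ ?_ ?_
    · rw [InvNorm.tau] at hU
      have := congrArg Matrix.transpose hU
      rwa [transpose_mul, transpose_transpose, transpose_one] at this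
    all_goals
      ext i j
      simp only [Matrix.add_apply, Matrix.map_apply, Matrix.smul_apply, smul_eq_mul, Matrix.of_apply, hA, hB]
      field_simp
      ring

end CfsgLib.OrthPow
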