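import Cfsg.Agent.OrthPow.Theta
import Cfsg.Agent.OrthPow.JMax
import Cfsg.Agent.SympPow.Centraliser

/-!
# Centralisers of `J` in a proper overgroup of the normaliser of `2^{1+2k}₊` in `Ω`
-/

set_option autoImplicit false
set_option linter.unusedSectionVars false

namespace CfsgLib.OrthPow

open Matrix Cfsg.Geo CfsgLib.SympType
open CfsgLib.SympPow (ThetaBase mem_normalizer_of_forall normalizer_le)
open CfsgLib.SpEight (centJ mem_centJ thetaMat thetaMat_mul theta theta_val theta_injective theta_unitJ det_theta_conj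
  det_theta_transpose unitJ unitJ_sq unitJ_mem)
open scoped commutatorElement

local notation:max "mat" => Units.val

variable {F : Type*} [Field F] {m : ℕ}

local notation "ι" => (Fin m ⊕ Fin m)

/-- In a cyclic group, two non-squares have a square product. -/
theorem square_or {G : Type*} [CommGroup G] [IsCyclic G] {a b : G} (ha : ¬ IsSquare a) (hb : ¬ IsSquare b) :
    IsSquare (a * b) := by
  obtain ⟨g, hg⟩ := IsCyclic.exists_generator (α := G)
  obtain ⟨i, rfl⟩ := Subgroup.mem_zpowers_iff.1 (hg a)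
  obtain ⟨j, rfl⟩ := Subgroup.mem_zpowers_iff.1 (hg b)
  have hodd : ∀ i : ℤ, ¬ IsSquare (g ^ i) → Odd i := fun i h => by
    by_contra he
    obtain ⟨r, rfl⟩ := Int.not_odd_iff_even.1 he
    exact h ⟨g ^ r, _root_.zpow_add g r r⟩
  obtain ⟨r, hr⟩ := (hodd i ha).add_odd (hodd j hb)
  exact ⟨g ^ r, by rw [← _root_.zpow_add, ← _root_.zpow_add, hr]⟩

/-- The centraliser of `J` in a proper overgroup normalises the centraliser of `J` in `R`. -/
theorem half_unitJ [Fintype F] {L : Type*} [Field L] [Fintype L] {ψ : F →+* L} {c : L} {hc : c * c = -1} {k : ℕ}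
    {K : Subgroup (GL (Fin m) L)} (B : ThetaBase ψ c hc m k K)
    (perf : (Matrix.GeneralLinearGroup.det.comp (theta (m := m) ψ c hc)).ker ≤
      ⁅(Matrix.GeneralLinearGroup.det.comp (theta (m := m) ψ c hc)).ker,
        (Matrix.GeneralLinearGroup.det.comp (theta (m := m) ψ c hc)).ker⁆)
    {l : ℕ} (hml : m = l + l) (hl2 : 2 ∣ l) (hm8 : 8 ≤ m)
    {R H : Subgroup (GL ι F)} (D : Data R) (hR : R ≤ orth ι F) (hcard : Nat.card R = 2 ^ (1 + 2 * k))
    (hJ : unitJ m F ∈ R) (hlow : subgroupNormalizer R ⊓ omega ι F ≤ H) (hhigh : H ≤ omega ι F)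
    (hne : ¬ omega ι F ≤ H)
    {g : GL ι F} (hgH : g ∈ H) (hgJ : g * unitJ m F = unitJ m F * g)
    {x : GL ι F} (hx : x ∈ R) (hxJ : x * unitJ m F = unitJ m F * x) : g * x * g⁻¹ ∈ R := by
  classical
  haveI : Nonempty (Fin m) := ⟨⟨0, by omega⟩⟩
  haveI : Nonempty ι := ⟨Sum.inl ⟨0, by omega⟩⟩
  have h8 : 8 ≤ Fintype.card ι := by simp; omega
  have hgC : g ∈ centJ m F := (mem_centJ_iff D.two).2 ⟨omega_le (hhigh hgH), hgJ⟩
  obtain ⟨θ, hθ⟩ : ∃ θ : ↥(centJ m F) →* GL (Fin m) L, θ = theta ψ c hc := ⟨_, rfl⟩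
  have hinj : Function.Injective θ := hθ ▸ theta_injective hc D.two
  let RC : Subgroup ↥(centJ m F) := R.subgroupOf (centJ m F)
  obtain ⟨S, hS⟩ : ∃ S, S = RC.map θ := ⟨_, rfl⟩
  have memS : ∀ {g : ↥(centJ m F)}, θ g ∈ S ↔ (g : GL ι F) ∈ R := fun {g} => by
    rw [hS]
    exact ⟨fun ⟨z, hz, e⟩ => hinj e ▸ hz, fun h => ⟨g, h, rfl⟩⟩
  have hJC := unitJ_mem (m := m) (F := F)
  have hJns : unitJ m F ∉ scalars ι F := fun h => by
    obtain ⟨k, hk⟩ := (mem_scalars_iff _).1 h
    have := congrFun (congrFun hk (Sum.inr ⟨0, by omega⟩)) (Sum.inl ⟨0, by omega⟩)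
    simp [unitJ, Matrix.J] at this
  have hsub : ∀ {z}, z ∈ R → z * unitJ m F = unitJ m F * z → z ∈ centJ m F := fun hz h => (mem_centJ_iff D.two).2 ⟨hR hz, h⟩
  -- the image is absolutely irreducible
  have hspan : Submodule.span L (matrixSet S) = ⊤ := by
    let π : Matrix ι ι F →ₗ[F] Matrix ι ι F :=
      { toFun := fun M => (2 : F)⁻¹ • (M + mat (unitJ m F) * M * mat (unitJ m F)⁻¹)
        map_add' := fun M N => by simp only [Matrix.mul_add, Matrix.add_mul, smul_add]; abel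
        map_smul' := fun k M => by
          simp only [Matrix.mul_smul, Matrix.smul_mul, RingHom.id_apply, smul_smul, mul_comm k, ← smul_add] }
    let Φ : Matrix ι ι F → Matrix (Fin m) (Fin m) L := thetaMat ψ c
    have hΦadd : ∀ M N, Φ (M + N) = Φ M + Φ N := fun M N => by
      ext i j; simp [Φ, thetaMat, toBlocks₁₁, toBlocks₁₂]; ring
    have hΦsmul : ∀ (k : F) M, Φ (k • M) = ψ k • Φ M := fun k M => by
      ext i j; simp [Φ, thetaMat, toBlocks₁₁, toBlocks₁₂]; ring
    have key : ∀ M ∈ Submodule.span F (matrixSet R), Φ (π M) ∈ Submodule.span L (matrixSet S) := by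
      intro M hM
      induction hM using Submodule.span_induction with
      | mem M hM =>
        obtain ⟨z, hz, rfl⟩ := hM
        rcases D.comm _ hJ z hz with e | e
        · have e' : π (mat z) = mat z := by
            show (2 : F)⁻¹ • (mat z + _) = _
            rw [← Units.val_mul, ← Units.val_mul, e, mul_inv_cancel_right, ← two_smul F (mat z), smul_smul,
              inv_mul_cancel₀ D.two, one_smul]
          rw [e']
          refine Submodule.subset_span ⟨θ ⟨z, hsub hz e.symm⟩, memS.2 hz, ?_⟩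
          rw [hθ]; rfl
        · have e' : π (mat z) = 0 := by
            show (2 : F)⁻¹ • (mat z + _) = _
            rw [← Units.val_mul, ← Units.val_mul, e, neg_mul, mul_inv_cancel_right, Units.val_neg, add_neg_cancel,
              smul_zero]
          rw [e', show Φ 0 = 0 by simpa using hΦsmul 0 0]
          exact Submodule.zero_mem _
      | zero => rw [map_zero, show Φ 0 = 0 by simpa using hΦsmul 0 0]; exact Submodule.zero_mem _
      | add M N _ _ h1 h2 => rw [map_add, hΦadd]; exact Submodule.add_mem _ h1 h2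
      | smul k M _ h => rw [map_smul, hΦsmul]; exact Submodule.smul_mem _ _ h
    have hE : ∀ i j, Matrix.single i j (1 : L) ∈ Submodule.span L (matrixSet S) := fun i j => by
      obtain ⟨E, hE⟩ : ∃ E : Matrix ι ι F, E = fromBlocks (Matrix.single i j 1) 0 0 (Matrix.single i j 1) :=
        ⟨_, rfl⟩
      have hπE : π E = E := by
        show (2 : F)⁻¹ • (E + _) = E
        have : mat (unitJ m F) * E * mat (unitJ m F)⁻¹ = E := by
          rw [hE]; simp [unitJ, Matrix.J, fromBlocks_multiply, fromBlocks_neg]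
        rw [this, ← two_smul F E, smul_smul, inv_mul_cancel₀ D.two, one_smul]
      have hΦE : Φ E = Matrix.single i j 1 := by
        ext a b
        simp [Φ, thetaMat, hE, toBlocks₁₁, toBlocks₁₂, Matrix.single_apply, apply_ite ψ]
      rw [← hΦE, ← hπE]
      refine key _ ?_
      rw [CfsgLib.Aschbacher.span_eq_top_of_absIrred D.abs]
      trivial
    rw [eq_top_iff]
    intro M _
    rw [Matrix.matrix_eq_sum_single M]
    refine Submodule.sum_mem _ fun i _ => Submodule.sum_mem _ fun j _ => ?_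
    rw [show Matrix.single i j (M i j) = M i j • Matrix.single i j (1 : L) by simp]
    exact Submodule.smul_mem _ _ (hE i j)
  have habs : ActsAbsolutelyIrreducibly (matrixSet S) := by
    refine ⟨fun W hW => ?_, fun M hM => ?_⟩
    · by_cases hb : W = ⊥
      · exact Or.inl hb
      obtain ⟨w, hw, hw0⟩ := Submodule.exists_mem_ne_zero_of_ne_bot hb
      have hall : ∀ (A : Matrix (Fin m) (Fin m) L), ∀ v ∈ W, A *ᵥ v ∈ W := fun A => by
        have hA : A ∈ Submodule.span L (matrixSet S) := by rw [hspan]; trivial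
        induction hA using Submodule.span_induction with
        | mem A hA => intro v hv; rw [← toLin'_apply]; exact hW A hA ⟨v, hv, rfl⟩
        | zero => intro v _; rw [zero_mulVec]; exact W.zero_mem
        | add A B _ _ h1 h2 => intro v hv; rw [add_mulVec]; exact W.add_mem (h1 v hv) (h2 v hv)
        | smul k A _ h => intro v hv; rw [smul_mulVec]; exact W.smul_mem k (h v hv)
      obtain ⟨i, hi⟩ := Function.ne_iff.1 hw0
      refine Or.inr (eq_top_iff.2 fun v _ => ?_)
      have := hall (Matrix.vecMulVec v (Pi.single i (w i)⁻¹)) w hw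
      rwa [vecMulVec_mulVec, single_dotProduct, inv_mul_cancel₀ hi, MulOpposite.op_one, one_smul] at this
    · have hall : ∀ A : Matrix (Fin m) (Fin m) L, Commute M A := fun A => by
        have hA : A ∈ Submodule.span L (matrixSet S) := by rw [hspan]; trivial
        induction hA using Submodule.span_induction with
        | mem A hA => exact hM A hA
        | zero => exact Commute.zero_right M
        | add A B _ _ h1 h2 => exact h1.add_right h2
        | smul k A _ h => exact h.smul_right k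
      obtain ⟨k, hk⟩ := Matrix.mem_range_scalar_iff_commute_single'.2 fun i j => (hall _).symm
      exact ⟨k, by rw [← hk, Matrix.scalar_apply, Matrix.smul_one_eq_diagonal]⟩
  have h2L : (2 : L) ≠ 0 := by rw [← map_ofNat ψ 2]; exact (map_ne_zero _).2 D.two
  have hθneg : θ ⟨unitJ m F * unitJ m F, mul_mem hJC hJC⟩ = -1 := Units.ext (by
    rw [hθ, theta_val]
    show thetaMat ψ c (mat (unitJ m F * unitJ m F)) = _
    rw [unitJ_sq, Units.val_neg, Units.val_one, Units.val_neg, Units.val_one]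
    ext i j
    by_cases h : i = j <;> simp [thetaMat, toBlocks₁₁, toBlocks₁₂, h])
  have DS : Data S := by
    refine ⟨h2L, habs, ?_, ?_, ?_⟩
    · rw [← hθneg, memS]; exact R.mul_mem hJ hJ
    · intro x hx
      rw [hS] at hx
      obtain ⟨z, hz, rfl⟩ := hx
      rcases D.sq _ hz with e | e
      · left; rw [← map_mul, ← map_one θ]; exact congrArg θ (Subtype.ext e)
      · right; rw [← map_mul, ← hθneg]; exact congrArg θ (Subtype.ext (e.trans unitJ_sq.symm))
    · intro x hx y hy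
      rw [hS] at hx hy
      obtain ⟨a, ha, rfl⟩ := hx
      obtain ⟨b, hb, rfl⟩ := hy
      rcases D.comm _ ha _ hb with e | e
      · left; rw [← map_mul, ← map_mul]; exact congrArg θ (Subtype.ext e)
      · right
        rw [← map_mul, ← neg_one_mul, ← hθneg, ← map_mul, ← map_mul]
        refine congrArg θ (Subtype.ext ?_)
        show (a : GL ι F) * b = unitJ m F * unitJ m F * ((b : GL ι F) * a)
        rw [unitJ_sq, neg_one_mul]
        exact e
  obtain ⟨j, hjdef⟩ : ∃ j, j = θ ⟨unitJ m F, hJC⟩ := ⟨_, rfl⟩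
  have hjS : j ∈ S := hjdef ▸ memS.2 hJ
  have hc0 : c ≠ 0 := fun e => by simp [e] at hc
  have hjs : j ∈ scalars (Fin m) L := (mem_scalars_iff _).2 ⟨Units.mk0 (-c) (neg_ne_zero.2 hc0), by
    rw [hjdef, hθ]; exact theta_unitJ hc⟩
  have hj2 : j * j = -1 := by rw [hjdef, ← map_mul, ← hθneg]; rfl
  -- the element `y` off the centraliser
  obtain ⟨y, hy, hyJ⟩ := D.exists_anti hJ hJns
  have hyJ' : y * unitJ m F = -(unitJ m F * y) := by rw [hyJ, neg_neg]
  have hScard : Nat.card S = 2 ^ (2 * k) := by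
    have e1 : Nat.card S = Nat.card RC := by
      rw [hS]; exact (Nat.card_congr (RC.equivMapOfInjective θ hinj).toEquiv).symm
    let f : RC × Bool → R := fun p => cond p.2 ⟨((p.1 : ↥(centJ m F)) : GL ι F), p.1.2⟩
      ⟨y * ((p.1 : ↥(centJ m F)) : GL ι F), R.mul_mem hy p.1.2⟩
    have hanti : ∀ {z : GL ι F}, z * unitJ m F = unitJ m F * z → y * z * unitJ m F = -(unitJ m F * (y * z)) :=
      fun {z} hz => by rw [mul_assoc, hz, ← mul_assoc, hyJ', neg_mul, mul_assoc]
    have hf : Function.Bijective f := by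
      refine ⟨?_, fun x => ?_⟩
      · rintro ⟨a, e⟩ ⟨b, e'⟩ hab
        have hab' := congrArg Subtype.val hab
        have ca := (mem_centJ.1 (a : ↥(centJ m F)).2).2
        have cb := (mem_centJ.1 (b : ↥(centJ m F)).2).2
        cases e <;> cases e' <;> simp only [f, cond_true, cond_false] at hab'
        · rw [show a = b from Subtype.ext (Subtype.ext (mul_left_cancel hab'))]
        · exact absurd ((hanti ca).symm.trans (by rw [hab', cb])) (fun h => ne_neg D.two _ h.symm)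
        · exact absurd ((hanti cb).symm.trans (by rw [← hab', ca])) (fun h => ne_neg D.two _ h.symm)
        · rw [show a = b from Subtype.ext (Subtype.ext hab')]
      · obtain ⟨x, hx⟩ := x
        rcases D.comm x hx _ hJ with e | e
        · exact ⟨(⟨⟨x, hsub hx e⟩, hx⟩, true), rfl⟩
        · have hyx := R.mul_mem (R.inv_mem hy) hx
          have hcomm : y⁻¹ * x * unitJ m F = unitJ m F * (y⁻¹ * x) := by
            rw [mul_assoc, e, mul_neg, ← mul_assoc, ← mul_assoc, ← neg_mul]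
            congr 1
            refine mul_left_cancel (a := y) ?_
            rw [mul_neg, mul_inv_cancel_left, ← mul_assoc, hyJ', neg_mul, mul_inv_cancel_right]
          exact ⟨(⟨⟨y⁻¹ * x, hsub hyx hcomm⟩, hyx⟩, false), Subtype.ext (mul_inv_cancel_left y x)⟩
    have e2 := Nat.card_eq_of_bijective f hf
    rw [hcard, add_comm 1, Nat.card_prod, Nat.card_eq_fintype_card (α := Bool), Fintype.card_bool] at e2
    rw [pow_succ'] at e2
    omega
  have mem_scalarsDet : ∀ {x : GL (Fin m) L}, x ∈ S → (mat x).det = 1 := fun {x} hx =>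
    DS.det_eq_one hjS hjs hj2 (by rw [Fintype.card_fin]; omega) hx
  have hSK : S ≤ K := fun x hx => by
    have hd : (mat x).det = 1 := mem_scalarsDet hx
    rw [hS] at hx
    obtain ⟨z, -, rfl⟩ := hx
    exact hθ ▸ B.mem z (hθ ▸ hd)
  have hmax := B.base S DS ⟨j, hjS, hjs, hj2⟩ hScard hSK
  have A := ambient D hR h8
  -- the image of the overgroup, with the scalars
  let T : Subgroup (GL (Fin m) L) :=
    { carrier := {a | ∃ h : ↥(centJ m F), (h : GL ι F) ∈ H ∧ ∃ s ∈ scalars (Fin m) L, a = θ h * s}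
      one_mem' := ⟨1, H.one_mem, 1, one_mem _, by rw [map_one, mul_one]⟩
      mul_mem' := by
        rintro _ _ ⟨h, hh, s, hs, rfl⟩ ⟨h', hh', s', hs', rfl⟩
        refine ⟨h * h', H.mul_mem hh hh', s * s', mul_mem hs hs', ?_⟩
        rw [map_mul, show θ h * s * (θ h' * s') = θ h * (s * θ h') * s' by group, scalar_comm hs]
        group
      inv_mem' := by
        rintro _ ⟨h, hh, s, hs, rfl⟩
        exact ⟨h⁻¹, H.inv_mem hh, s⁻¹, inv_mem hs, by rw [_root_.mul_inv_rev, scalar_comm (inv_mem hs), map_inv]⟩ }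
  have hmemT : ∀ h : ↥(centJ m F), (h : GL ι F) ∈ H → θ h ∈ T := fun h hh =>
    ⟨h, hh, 1, one_mem _, (mul_one _).symm⟩
  -- the transvections are images, up to scalars
  have hpair : ∀ {v : GL (Fin m) L}, v ∈ S → v * v = -1 → v ∉ scalars (Fin m) L →
      ∀ t : GL (Fin m) L, mat t = 1 + mat v →
      ∃ γ : ↥(centJ m F), (γ : GL ι F) ∈ subgroupNormalizer R ⊓ omega ι F ∧
        ∃ e ∈ scalars (Fin m) L, t = e * θ γ := by
    intro v hv hv2 hvns t ht
    rw [hS] at hv
    obtain ⟨z, hz, rfl⟩ := hv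
    obtain ⟨γ, hγ, hγC, t₁, t₂, ht₁, ht₂, h2, k, hk, hγk⟩ : ∃ γ, γ ∈ subgroupNormalizer R ⊓ omega ι F ∧
        ∃ _ : γ ∈ centJ m F, ∃ t₁ t₂ : GL ι F, mat t₁ = 1 + mat (z : GL ι F) ∧
          mat t₂ = 1 + mat (unitJ m F) ∧ t₂ * unitJ m F = unitJ m F * t₂ ∧
          ∃ k ∈ scalars ι F, γ = k * (t₁ * t₂) := by
      have hz2 : (z : GL ι F) * z = -1 := by
        rw [← map_mul, ← hθneg] at hv2
        exact (congrArg Subtype.val (hinj hv2)).trans unitJ_sq
      have hzns : (z : GL ι F) ∉ scalars ι F := ns_root D hR hz hz2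
      obtain ⟨n, hn, s, hs, hns⟩ := D.trans_root h8 A hz hJ hz2 unitJ_sq hzns hJns
      obtain ⟨t₁, t₂, γ, ht₁, ht₂, hγ, k, hk, hγk⟩ :=
        D.exists_pair A hz hJ hz2 unitJ_sq hzns ⟨n, D.sign_of_conj hz hJ (unitJ_sq.trans hz2.symm) hs hns⟩
      have hzJ := (mem_centJ.1 z.2).2
      have h1 : t₁ * unitJ m F = unitJ m F * t₁ := tv_comm ht₁ hzJ
      have h2 : t₂ * unitJ m F = unitJ m F * t₂ := tv_comm ht₂ rfl
      have hγC : γ ∈ centJ m F := (mem_centJ_iff D.two).2 ⟨omega_le hγ.2, by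
        rw [hγk, mul_assoc, mul_assoc t₁, h2, ← mul_assoc t₁, h1, mul_assoc, ← mul_assoc k, scalar_comm hk,
          mul_assoc]⟩
      exact ⟨γ, hγ, hγC, t₁, t₂, ht₁, ht₂, h2, k, hk, hγk⟩
    obtain ⟨δ, hδ⟩ : ∃ δ, δ = θ ⟨γ, hγC⟩ := ⟨_, rfl⟩
    obtain ⟨e, he, hte⟩ : ∃ e ∈ scalars (Fin m) L, t = e * δ := by
      obtain ⟨kc, hkc⟩ := (mem_scalars_iff k).1 hk
      have hval : mat δ = (ψ (kc : F) * (1 - c)) • mat t := by
        rw [hδ, hθ, theta_val]
        show thetaMat ψ c (mat γ) = _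
        rw [hγk, Units.val_mul, Units.val_mul, hkc, Matrix.smul_mul, Matrix.one_mul]
        have hsm : thetaMat ψ c ((kc : F) • (mat t₁ * mat t₂)) =
            ψ (kc : F) • thetaMat ψ c (mat t₁ * mat t₂) := by
          ext i j; simp [thetaMat, toBlocks₁₁, toBlocks₁₂]; ring
        rw [hsm, thetaMat_mul hc h2, mul_smul]
        congr 1
        have hlin : ∀ u : GL ι F, thetaMat ψ c (1 + mat u) = 1 + thetaMat ψ c (mat u) := fun u => by
          ext i j; by_cases h : i = j <;> simp [thetaMat, toBlocks₁₁, toBlocks₁₂, h] <;> ring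
        rw [ht₁, ht₂, hlin, hlin, ht, show thetaMat ψ c (mat (unitJ m F)) = (-c) • (1 : Matrix (Fin m) (Fin m) L)
          from theta_unitJ (ψ := ψ) hc, show mat (θ z) = thetaMat ψ c (mat (z : GL ι F)) by rw [hθ]; rfl,
          Matrix.mul_add, Matrix.mul_one, Matrix.mul_smul, Matrix.mul_one]
        module
      have h1c : ψ (kc : F) * (1 - c) ≠ 0 := fun h => δ.ne_zero (by rw [hval, h, zero_smul])
      refine ⟨t * δ⁻¹, ?_, by group⟩
      refine (mem_scalars_iff _).2 ⟨Units.mk0 _ (inv_ne_zero h1c), ?_⟩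
      rw [Units.val_mk0]
      have : mat t = (ψ (kc : F) * (1 - c))⁻¹ • mat δ := by
        rw [hval, smul_smul, inv_mul_cancel₀ h1c, one_smul]
      rw [Units.val_mul, this, Matrix.smul_mul, Units.mul_inv]
    exact ⟨⟨γ, hγC⟩, hγ, e, he, hδ ▸ hte⟩
  let Y : Subgroup (GL (Fin m) L) := T ⊓ K
  have hN : subgroupNormalizer S ⊓ K ≤ Y := by
    refine le_inf (inf_le_left.trans (normalizer_le DS hjS hjs hj2 (fun s hs => ⟨1, H.one_mem, s, hs, by
      rw [map_one, one_mul]⟩) (fun x hx => ?_) fun v hv hv2 hvns t ht => ?_)) inf_le_right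
    · rw [hS] at hx
      obtain ⟨z, hz, rfl⟩ := hx
      exact hmemT z (hlow ⟨Subgroup.le_normalizer hz, A.le hz⟩)
    · obtain ⟨γ, hγ, e, he, hte⟩ := hpair hv hv2 hvns t ht
      exact ⟨γ, hlow hγ, e, he, by rw [hte, scalar_comm he]⟩
  rcases hmax.2 Y hN inf_le_right with hX | hX
  swap
  · -- the image is full
    exfalso
    obtain ⟨d, hd⟩ : ∃ d : ↥(centJ m F) →* Lˣ, d = Matrix.GeneralLinearGroup.det.comp (theta ψ c hc) := ⟨_, rfl⟩
    have hd' : ∀ z, ((d z : Lˣ) : L) = (mat (θ z)).det := fun z => by rw [hd, hθ]; rfl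
    -- the elements of determinant one
    have hUH : ∀ z, d z = 1 → (z : GL ι F) ∈ H := by
      intro z hz
      have hmem : z ∈ ⁅d.ker, d.ker⁆ := hd ▸ perf (hd ▸ (MonoidHom.mem_ker.2 hz : z ∈ d.ker))
      refine (Subgroup.commutator_le.2 fun u hu u' hu' => ?_ : ⁅d.ker, d.ker⁆ ≤ H.comap (centJ m F).subtype) hmem
      have up : ∀ u : ↥(centJ m F), u ∈ d.ker → ∃ h : ↥(centJ m F), (h : GL ι F) ∈ H ∧
          ∃ s ∈ scalars (Fin m) L, θ u = θ h * s := fun u hu => by
        have e : (mat (θ u)).det = 1 := by rw [← hd', MonoidHom.mem_ker.1 hu, Units.val_one]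
        have : θ u ∈ Y := hX ▸ (hθ ▸ B.mem u (hθ ▸ e))
        exact this.1
      obtain ⟨a, ha, s, hs, ea⟩ := up u hu
      obtain ⟨b, hb, s', hs', eb⟩ := up u' hu'
      have e : ⁅u, u'⁆ = ⁅a, b⁆ := hinj (by
        rw [map_commutatorElement, map_commutatorElement, ea, eb, commutatorElement_def, commutatorElement_def,
          show θ a * s * (θ b * s') * (θ a * s)⁻¹ * (θ b * s')⁻¹ =
            θ a * (s * θ b) * s' * s⁻¹ * (θ a)⁻¹ * s'⁻¹ * (θ b)⁻¹ by group, scalar_comm hs,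
          show θ a * (θ b * s) * s' * s⁻¹ * (θ a)⁻¹ * s'⁻¹ * (θ b)⁻¹ =
            θ a * θ b * (s * s' * s⁻¹ * ((θ a)⁻¹ * s'⁻¹)) * (θ b)⁻¹ by group,
          scalar_comm hs s', ← scalar_comm (inv_mem hs') (θ a)⁻¹]
        group)
      rw [Subgroup.mem_comap, e]
      exact H.mul_mem (H.mul_mem (H.mul_mem ha hb) (H.inv_mem ha)) (H.inv_mem hb)
    -- coordinates for an involution commuting with `J`
    have hny : ∀ z ∈ scalars ι F, z * unitJ m F = unitJ m F * z := fun z h => scalar_comm h _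
    obtain ⟨o, ho, o', ho', e1, -, e3, -, e5⟩ :=
      D.exists_orth_anti h8 hJ hy hJns (D.ns_of_bit (y := unitJ m F) ((D.bit_eq_one hy hJ).2 hyJ'))
        (fun h => by
          have := hny _ h
          rw [mul_assoc, hyJ', mul_neg, inv_mul_cancel_left, ← mul_assoc, mul_inv_cancel, one_mul] at this
          exact ne_neg D.two _ this.symm)
    have toPlus : ∀ {o o' : GL ι F}, o ∈ R → bit o (unitJ m F) = 0 → bit o o' = 1 → o' ∈ R →
        bit o' (unitJ m F) = 0 → ∃ u ∈ R, u * u = 1 ∧ bit u (unitJ m F) = 0 ∧ bit u o' = 1 := by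
      intro o o' ho e1 e5 ho' e3
      rcases D.sq o ho with h | h
      · exact ⟨o, ho, h, e1, e5⟩
      · refine ⟨o * unitJ m F, R.mul_mem ho hJ, ?_, ?_, ?_⟩
        · rw [mul_assoc, ← mul_assoc (unitJ m F), ← bit_eq_zero.1 e1, mul_assoc o (unitJ m F), unitJ_sq,
            ← mul_assoc, h, neg_mul_neg, one_mul]
        · rw [D.bit_mul ho hJ hJ, e1, bit_self, add_zero]
        · rw [D.bit_mul ho hJ ho', e5, bit_comm, e3, add_zero]
    obtain ⟨u, hu, hu2, huJ, huo'⟩ := toPlus ho e1 e5 ho' e3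
    obtain ⟨y0, hy0, hy02, hy0J, hy0u⟩ := toPlus ho' e3 (by rwa [bit_comm]) hu huJ
    obtain ⟨M, hMN, hNM, hsg, hsw, E, hle⟩ :=
      exists_split hml (by omega) D hR hu hy0 hu2 hy02 ((D.bit_eq_one hu hy0).1 (by rwa [bit_comm]))
    obtain ⟨φ, hφ⟩ : ∃ φ, φ = coordEquiv M Mᵀ hMN hNM := ⟨_, rfl⟩
    have hφo : ∀ z, φ z ∈ orth ι F ↔ z ∈ orth ι F := fun z => by rw [hφ]; exact coord_mem_orth D.two hMN hNM
    have hφΩ : ∀ z, φ z ∈ omega ι F ↔ z ∈ omega ι F := fun z => by rw [hφ]; exact coord_mem_omega D.two hMN hNM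
    obtain ⟨x₀, hx₀⟩ := φ.surjective (unitJ m F)
    rw [← hφ] at hsg hsw E hle
    have hneg : ∀ z, φ (-z) = -φ z := fun z => by rw [hφ]; exact neg_coordEquiv z
    have hx₀R : x₀ ∈ R.comap φ.toMonoidHom := by
      show φ x₀ ∈ R
      rw [hx₀]; exact hJ
    have D' := E.small_data
    obtain ⟨v, hv, hxv⟩ : ∃ v ∈ small (R.comap φ.toMonoidHom), x₀ = bd (v, v) := by
      obtain ⟨v, hv, e | e⟩ := E.comm_cases hx₀R (φ.injective (by
        rw [map_mul, map_mul, hx₀, hsg, bit_eq_zero.1 huJ]))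
      · exact ⟨v, hv, e⟩
      · exfalso
        have h1 : x₀ * sw = sw * x₀ := φ.injective (by rw [map_mul, map_mul, hx₀, hsw, bit_eq_zero.1 hy0J])
        rw [e, sw_bd, mul_left_inj, bd_inj] at h1
        exact ne_neg D'.two _ h1.1
    have hv2 : v * v = -1 := by
      have h1 : x₀ * x₀ = -1 := φ.injective (by rw [map_mul, hx₀, unitJ_sq, hneg, map_one])
      rw [hxv, bd_mul, ← map_one bd, ← Prod.mk_one_one, ← bd_neg, bd_inj] at h1
      exact h1.1
    have hsmall : small (R.comap φ.toMonoidHom) ≤ orth (Fin m) F := fun _ ha => ((bd_mem_orth D.two).1 (hle ha)).1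
    have h8' : 8 ≤ Fintype.card (Fin m) := by simpa using hm8
    obtain ⟨w, hw, hvw⟩ := D'.exists_anti hv (ns_root D' hsmall hv hv2)
    have hwv : w * v = -(v * w) := by rw [hvw, neg_neg]
    -- the block centralisers
    let P : Subgroup (GL (Fin m) F) := orth (Fin m) F ⊓ Subgroup.centralizer {v}
    have hP : ∀ {X}, X ∈ P ↔ X ∈ orth (Fin m) F ∧ X * v = v * X := fun {X} => by
      show X ∈ orth (Fin m) F ⊓ Subgroup.centralizer {v} ↔ _
      rw [Subgroup.mem_inf, Subgroup.mem_centralizer_singleton_iff]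
    have mkC : ∀ {X Y : GL (Fin m) F}, X ∈ P → Y ∈ P → φ (bd (X, Y)) ∈ centJ m F := fun {X Y} hX hY =>
      (mem_centJ_iff D.two).2 ⟨(hφo _).2 ((bd_mem_orth D.two).2 ⟨(hP.1 hX).1, (hP.1 hY).1⟩), by
        rw [← hx₀, ← map_mul, ← map_mul, hxv, bd_mul, bd_mul, (hP.1 hX).2, (hP.1 hY).2]⟩
    let i₁ : ↥P →* ↥(centJ m F) := (φ.toMonoidHom.comp (bd.comp (P.subtype.prod 1))).codRestrict _
      fun X => mkC X.2 P.one_mem
    let i₂ : ↥P →* ↥(centJ m F) := (φ.toMonoidHom.comp (bd.comp ((1 : ↥P →* GL (Fin m) F).prod P.subtype))).codRestrict _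
      fun X => mkC P.one_mem X.2
    have hy0C : y0 ∈ centJ m F := hsub hy0 (bit_eq_zero.1 hy0J)
    have hi : ∀ X, d (i₁ X) = d (i₂ X) := fun X => by
      have e : i₂ X = ⟨y0, hy0C⟩ * i₁ X * ⟨y0, hy0C⟩⁻¹ := Subtype.ext (by
        show φ (bd (1, (X : GL (Fin m) F))) = y0 * φ (bd ((X : GL (Fin m) F), 1)) * y0⁻¹
        rw [← hsw, ← map_inv, ← map_mul, ← map_mul, sw_conj])
      rw [e, map_mul, map_mul, map_inv, mul_comm (d ⟨y0, hy0C⟩), mul_inv_cancel_right]
    have hwP : ∀ {X}, X ∈ P → w * X * w⁻¹ ∈ P := fun {X} hX => hP.2 ⟨mul_mem (mul_mem (hsmall hw) (hP.1 hX).1)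
      (inv_mem (hsmall hw)), by
        have hwi : w⁻¹ * v = -(v * w⁻¹) := by
          have := congrArg (fun y : GL (Fin m) F => w⁻¹ * y * w⁻¹) hvw
          simpa [mul_assoc] using this
        rw [mul_assoc (w * X), hwi, mul_neg, ← mul_assoc, mul_assoc w, (hP.1 hX).2, ← mul_assoc w, hwv, neg_mul, neg_mul,
          neg_neg, mul_assoc v w, mul_assoc v]⟩
    have hconj : ∀ X : ↥P, d (i₂ ⟨_, hwP X.2⟩) * d (i₁ X) = 1 := fun X => by
      have hσ : φ (bd (w, w)) * unitJ m F = -(unitJ m F * φ (bd (w, w))) := by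
        rw [← hx₀, ← map_mul, ← map_mul, ← hneg, hxv, bd_mul, bd_mul, hwv, bd_neg]
      have hh : φ (bd (w, w)) * ((i₂ X : ↥(centJ m F)) : GL ι F) =
          ((i₂ ⟨_, hwP X.2⟩ : ↥(centJ m F)) : GL ι F) * φ (bd (w, w)) := by
        show φ (bd (w, w)) * φ (bd (1, (X : GL (Fin m) F))) =
          φ (bd (1, w * (X : GL (Fin m) F) * w⁻¹)) * φ (bd (w, w))
        rw [← map_mul φ, ← map_mul φ, bd_mul, bd_mul, mul_one, one_mul, inv_mul_cancel_right]
      have h1 := det_theta_conj (ψ := ψ) (c := c) hc hσ (D.sq _ (mem_small.1 hw)) _ _ hh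
      have h2 := det_theta_transpose (ψ := ψ) hc (i₂ X)
      rw [← h1, mul_comm] at h2
      refine Units.ext ?_
      rw [hi, Units.val_mul, hd', hd', hθ, Units.val_one]
      exact h2
    have hsΩ : φ (bd (1, w)) ∈ H := hlow ⟨by
        have : bd (1, w) ∈ (subgroupNormalizer R).comap φ.toMonoidHom := by
          have h := right_normalizer E hw
          rw [hφ] at h ⊢
          rw [normalizer_comap]
          exact h
        exact this, (hφΩ _).2 (right_mem_omega D.two (le_omega D' hsmall h8' hw))⟩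
    -- squares of determinants
    have hsq : ∀ z, ∃ h : ↥(centJ m F), (h : GL ι F) ∈ H ∧ d h = d z * d z := by
      intro z
      obtain ⟨e, he⟩ : ∃ e : ι → F, e = M *ᵥ Pi.single (Sum.inl ⟨0, by omega⟩) 1 := ⟨_, rfl⟩
      have hee : e ⬝ᵥ e = 1 := by
        rw [he, dotProduct_mulVec, ← mulVec_transpose, mulVec_mulVec, hNM, one_mulVec, dotProduct_single, mul_one,
          Pi.single_eq_same]
      obtain ⟨t, ⟨a, b, ht⟩, htd⟩ := exists_rot_det (ψ := ψ) hc D.two hee z
      have hdt : d t = d z := Units.ext (by rw [hd', hd', hθ, htd])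
      obtain ⟨U, hU⟩ : ∃ U, U = mat u := ⟨_, rfl⟩
      have hUe : U *ᵥ e = e := by
        have hs' : mat (sg : GL ι F) *ᵥ Pi.single (Sum.inl ⟨0, by omega⟩) 1 = Pi.single (Sum.inl ⟨0, by omega⟩) 1 := by
          funext s; rcases s with j | j <;> simp [sg, bd_val, Matrix.one_apply, Pi.single_apply]
        rw [hU, he, ← hsg, hφ, coordEquiv_val, mulVec_mulVec, Matrix.mul_assoc, hNM, Matrix.mul_one, ← mulVec_mulVec,
          hs']
      have hUJ : U * Matrix.J (Fin m) F = Matrix.J (Fin m) F * U := by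
        rw [hU]; exact congrArg Units.val (bit_eq_zero.1 huJ)
      have hUT : Uᵀ = U := by rw [hU, transpose_involution D.two (hR hu) hu2]
      have htu : (t : GL ι F) * u = u * (t : GL ι F) := Units.ext (by
        have hUf : U *ᵥ (Matrix.J (Fin m) F *ᵥ e) = Matrix.J (Fin m) F *ᵥ e := by
          rw [mulVec_mulVec, hUJ, ← mulVec_mulVec, hUe]
        have hv' : ∀ v, U *ᵥ v = v → v ᵥ* U = v := fun v h => by rw [← mulVec_transpose, hUT, h]
        rw [Units.val_mul, Units.val_mul, ← hU, ht]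
        simp only [rot, Matrix.add_mul, Matrix.mul_add, Matrix.sub_mul, Matrix.mul_sub, Matrix.smul_mul, Matrix.mul_smul,
          vecMulVec_mul, mul_vecMulVec, Matrix.one_mul, Matrix.mul_one, hUe, hUf, hv' _ hUe, hv' _ hUf])
      obtain ⟨t', ht'⟩ := φ.surjective (t : GL ι F)
      obtain ⟨X, Y', rfl⟩ := exists_bd_of_comm D.two (g := t') (φ.injective (by rw [map_mul, map_mul, ht', hsg]; exact htu))
      obtain ⟨⟨hXo, hYo⟩, hXv, hYv⟩ : (X ∈ orth (Fin m) F ∧ Y' ∈ orth (Fin m) F) ∧ X * v = v * X ∧ Y' * v = v * Y' := by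
        have ho := ((mem_centJ_iff D.two).1 t.2)
        refine ⟨(bd_mem_orth D.two).1 ((hφo _).1 (ht' ▸ ho.1)), ?_⟩
        have e : bd (X, Y') * x₀ = x₀ * bd (X, Y') := φ.injective (by rw [map_mul, map_mul, ht', hx₀]; exact ho.2)
        rw [hxv, bd_mul, bd_mul, bd_inj] at e
        exact e
      let X₁ : ↥P := ⟨X, hP.2 ⟨hXo, hXv⟩⟩
      let Y₁ : ↥P := ⟨Y', hP.2 ⟨hYo, hYv⟩⟩
      have et : t = i₁ X₁ * i₂ Y₁ := Subtype.ext (by
        show (t : GL ι F) = φ (bd (X, 1)) * φ (bd (1, Y'))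
        rw [← map_mul, bd_mul, mul_one, one_mul, ht'])
      obtain ⟨c₀, hc₀⟩ : ∃ c₀, c₀ = i₁ (X₁ * Y₁) * i₂ (Y₁ * X₁) := ⟨_, rfl⟩
      have hc₁ : (i₁ (X₁ * Y₁) * i₂ ⟨_, hwP (Y₁ * X₁).2⟩ : ↥(centJ m F)).1 ∈ H := hUH _ (by
        have e := hconj (Y₁ * X₁)
        rw [map_mul i₁ Y₁, map_mul d, mul_comm (d (i₁ Y₁)), ← map_mul d, ← map_mul i₁, mul_comm] at e
        rw [map_mul, e])
      refine ⟨c₀, ?_, ?_⟩
      · have e : φ (bd (1, w))⁻¹ * (i₁ (X₁ * Y₁) * i₂ ⟨_, hwP (Y₁ * X₁).2⟩ : ↥(centJ m F)).1 * φ (bd (1, w)) =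
            (c₀ : GL ι F) := by
          rw [hc₀]
          show φ (bd (1, w))⁻¹ * (φ (bd (X * Y', 1)) * φ (bd (1, w * (Y' * X) * w⁻¹))) * φ (bd (1, w)) =
            φ (bd (X * Y', 1)) * φ (bd (1, Y' * X))
          simp only [← map_mul φ, bd_inv, bd_mul]
          congr 2
          simp [mul_assoc]
        rw [← e, map_inv]
        exact H.mul_mem (H.mul_mem (H.inv_mem hsΩ) hc₁) hsΩ
      · rw [hc₀, ← hdt, et, map_mul i₁, map_mul i₂]
        simp only [map_mul, ← hi, mul_assoc]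
        rw [mul_comm (d (i₁ Y₁)) (d (i₁ X₁))]
    have hCH : ∀ z : ↥(centJ m F), IsSquare (d.rangeRestrict z) → (z : GL ι F) ∈ H := by
      rintro z ⟨⟨_, z', rfl⟩, hr⟩
      obtain ⟨h, hh, hdh⟩ := hsq z'
      have e : d z = d z' * d z' := congrArg Subtype.val hr
      have := hUH (z * h⁻¹) (by rw [map_mul, map_inv, e, hdh, mul_inv_cancel])
      rw [show z = z * h⁻¹ * h by group]
      exact H.mul_mem this hh
    obtain ⟨t₀, ht₀, ht₀Ω⟩ := exists_not_omega (F := F) (m := m) D.two (by omega)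
    have ht₀sq : ¬ IsSquare (d.rangeRestrict ⟨t₀, ht₀⟩) := fun h => ht₀Ω (hhigh (hCH _ h))
    have hΩJ : ∀ z ∈ omega ι F, z * unitJ m F = unitJ m F * z → z ∈ H := fun z hz hzJ => by
      refine hCH ⟨z, (mem_centJ_iff D.two).2 ⟨omega_le hz, hzJ⟩⟩ (by_contra fun hns => ?_)
      have := hhigh (hCH (⟨z, (mem_centJ_iff D.two).2 ⟨omega_le hz, hzJ⟩⟩ * ⟨t₀, ht₀⟩)
        (by rw [map_mul]; exact square_or hns ht₀sq))
      exact ht₀Ω (by simpa using mul_mem (inv_mem hz) this)
    have huns := D.ns_of_bit huo'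
    obtain ⟨z, hz, hz2, hzJ, -⟩ := D.exists_root_anti h8 hJ hu hJns huns fun h => by
      have e := D.bit_mul (R.inv_mem hJ) hu hy0
      rw [bit_eq_zero.2 (scalar_comm h y0), bit_eq_zero.2 (Commute.inv_left (bit_eq_zero.1 (bit_comm y0 (unitJ m F) ▸ hy0J))).eq,
        bit_comm u, hy0u, zero_add] at e
      exact zero_ne_one e
    obtain ⟨n, hn, hnJ⟩ := D.trans_anti A hJ hz unitJ_sq hz2 hJns (by rwa [bit_comm])
    have hzJ' := (D.bit_eq_one hz hJ).1 hzJ
    refine hne (omega_le_of_normaliser_unitJ D.two ⟨l, hml⟩ hm8 hhigh (fun a ha hh => ?_) (hlow hn) ?_ ?_)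
    · rcases hh with e | e
      · exact hΩJ a ha (mul_inv_eq_iff_eq_mul.1 e)
      · have e' : a * unitJ m F = -(unitJ m F * a) := by rw [← neg_mul]; exact mul_inv_eq_iff_eq_mul.1 e
        have := hΩJ (y * a) (mul_mem (A.le hy) ha) (by
          rw [mul_assoc, e', mul_neg, ← mul_assoc, hyJ', neg_mul, neg_neg, mul_assoc])
        rw [← inv_mul_cancel_left y a]
        exact H.mul_mem (H.inv_mem (hlow ⟨Subgroup.le_normalizer hy, A.le hy⟩)) this
    · rw [hnJ]
      rintro rfl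
      exact ne_neg D.two _ hzJ'
    · rw [hnJ]
      rintro rfl
      rw [neg_mul, mul_neg, neg_neg] at hzJ'
      exact ne_neg D.two _ hzJ'.symm
  -- the image normalises `S`
  obtain ⟨a, ha⟩ : ∃ a, a = θ ⟨g, hgC⟩ := ⟨_, rfl⟩
  have hXN : ∀ z : ↥(centJ m F), (z : GL ι F) ∈ H → (mat (θ z)).det = 1 → θ z ∈ subgroupNormalizer S :=
    fun z hz hd => by
      have : θ z ∈ Y := ⟨hmemT z hz, hθ ▸ B.mem z (hθ ▸ hd)⟩
      rw [hX] at this
      exact this.1
  have haN : a ∈ subgroupNormalizer S := by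
    refine DS.normalizer_of_projection hjS hjs hj2 (fun x hx => ?_) fun v hv hv2 hvns t ht => ?_
    · have hd : (mat x).det = 1 := mem_scalarsDet hx
      rw [hS] at hx
      obtain ⟨z, hz, rfl⟩ := hx
      rw [ha, ← map_inv, ← map_mul, ← map_mul]
      refine hXN _ ?_ ?_
      · exact H.mul_mem (H.mul_mem hgH (hlow ⟨Subgroup.le_normalizer hz, A.le hz⟩)) (H.inv_mem hgH)
      · rw [map_mul, map_mul, map_inv, Units.val_mul, Units.val_mul, det_units_conj, hd]
    · obtain ⟨γ, hγ, e, he, hte⟩ := hpair hv hv2 hvns t ht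
      have hδN : θ γ ∈ subgroupNormalizer S := by
        refine mem_normalizer_of_forall fun x hx => ?_
        rw [hS] at hx
        obtain ⟨w, hw, rfl⟩ := hx
        rw [← map_inv, ← map_mul, ← map_mul, memS]
        exact (Subgroup.mem_normalizer_iff.1 hγ.1 _).1 hw
      have hcomm : a⁻¹ * θ γ * a * (θ γ)⁻¹ ∈ subgroupNormalizer S := by
        rw [ha, ← map_inv, ← map_inv, ← map_mul, ← map_mul, ← map_mul]
        refine hXN _ ?_ ?_
        · exact H.mul_mem (H.mul_mem (H.mul_mem (H.inv_mem hgH) (hlow hγ)) hgH) (H.inv_mem (hlow hγ))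
        · rw [map_mul, map_mul, map_mul, map_inv, map_inv, Units.val_mul, Units.val_mul, Units.val_mul, det_mul,
            det_units_conj', ← det_mul, Units.mul_inv, det_one]
      rw [hte, show a⁻¹ * (e * θ γ) * a = (a⁻¹ * e) * θ γ * a by group, ← scalar_comm he a⁻¹,
        show e * a⁻¹ * θ γ * a = e * (a⁻¹ * θ γ * a * (θ γ)⁻¹ * θ γ) by group]
      exact mul_mem (scalar_mem_normalizer he S) (mul_mem hcomm hδN)
  have h := (Subgroup.mem_normalizer_iff.1 haN _).1 ((memS (g := ⟨x, hsub hx hxJ⟩)).2 hx)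
  rw [ha, ← map_inv, ← map_mul, ← map_mul, memS] at h
  exact h

end CfsgLib.OrthPow
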