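import Cfsg.Agent.OrthPow.Split
import Cfsg.Agent.SympPow.Classes
import Mathlib.GroupTheory.Transfer

/-!
# Isometries centralising no square root of `-1` of a group of symplectic type outside it

`kernel_le`: a group `K` of isometries containing `S` and normalised by the isometries normalising `S`, in which the
centraliser of every square root of `-1` of `S` lies in `S`, is `S`. The elements normalising `S` act trivially on
the classes, so `S` is a self-normalising Sylow subgroup modulo signs and its normal complement is inverted by every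
square root of `-1`.
-/

set_option autoImplicit false
set_option linter.unusedSectionVars false

namespace CfsgLib.OrthPow

open Matrix Cfsg.Geo CfsgLib.SympType
open CfsgLib.SympPow (Space IsIso cls cls_rep rep rep_mem cls_eq_iff form form_cls quad quad_cls_neg quad_rep
  space act act_cls act_isIso cls_pair z01)

local notation:max "mat" => Units.val

/-- The identity, if a fixed non-singular vector forces it. -/
theorem rigid_of_fixed {W : Type*} [AddCommGroup W] {β : W → W → ZMod 2} {q : W → ZMod 2} (S : Space β q)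
    {P : Set (W → W)} (iso : ∀ k ∈ P, IsIso β q k)
    (comm : ∀ k ∈ P, ∀ a b : W, q a = 1 → q b = 1 →
      ∃ k' ∈ P, ∀ x, k' x = SympPow.refl β (k a) (SympPow.refl β (k b) (SympPow.refl β b (SympPow.refl β a x))))
    (fixed : ∀ k ∈ P, ∀ w, q w = 1 → k w = w → ∀ x, k x = x) : ∀ k ∈ P, ∀ x, k x = x := by
  have fix_eq : ∀ {w x : W}, β x w = 0 → SympPow.refl β w x = x := fun {w x} h => by simp [SympPow.refl, h]
  have move_eq : ∀ {w x : W}, β x w = 1 → SympPow.refl β w x = x + w := fun {w x} h => by simp [SympPow.refl, h]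
  have h0 : ∀ {z : W}, q z = 1 → z ≠ 0 := fun hz e => by simp [e, S.q_zero] at hz
  intro k hk
  have I := iso k hk
  by_contra hne
  have nofix : ∀ w, q w = 1 → k w ≠ w := fun w hw e => hne (fixed k hk w hw e)
  -- the square of `k` on non-singular vectors
  have sq : ∀ a, q a = 1 → k (k a) = if β a (k a) = 1 then a + k a else a := by
    intro a ha
    have hb : q (k a) = 1 := (I.quad a).trans ha
    obtain ⟨k', hk', hk'x⟩ := comm k hk a (k a) ha hb
    obtain ⟨c, hc⟩ : ∃ c, c = SympPow.refl β (k a) (k (k a)) := ⟨_, rfl⟩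
    have hx : ∀ x, k' x = SympPow.refl β c (SympPow.refl β a x) := fun x => by rw [hk'x, S.refl_conj, S.refl_refl, hc]
    obtain ⟨w, hw, hwa, hwc⟩ := S.exists_root_perp a c
    have hfix : k' w = w := by rw [hx, fix_eq hwa, fix_eq hwc]
    have hid : ∀ x, SympPow.refl β a x = SympPow.refl β c x := fun x => by
      conv_rhs => rw [← fixed k' hk' w hw hfix x, hx, S.refl_refl]
    obtain ⟨x, hxa⟩ := S.exists_bit (h0 ha)
    have hxa' : β x a = 1 := by rw [S.symm]; exact hxa
    have h := hid x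
    rw [move_eq hxa'] at h
    have hca : c = a := by
      rcases z01 (β x c) with e | e
      · rw [fix_eq e] at h
        exact absurd (by simpa using h : a = 0) (h0 ha)
      · rw [move_eq e] at h
        exact (add_left_cancel h).symm
    rw [hca] at hc
    have h' := congrArg (SympPow.refl β (k a)) hc
    rw [S.refl_refl] at h'
    rw [← h', SympPow.refl]
  -- `a` and `k a` never commute
  have hall : ∀ a, q a = 1 → β a (k a) = 1 := by
    intro a ha
    refine (z01 _).resolve_left fun e0 => ?_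
    have hkk : k (k a) = a := by rw [sq a ha, if_neg (by rw [e0]; exact zero_ne_one)]
    obtain ⟨o, o', hoo, h1, h2, h3, h4⟩ := S.exists_perp a (k a)
    obtain ⟨d, hd, hd'⟩ := S.exists_one hoo 0
    rw [S.zero_left, add_zero] at hd'
    obtain ⟨hda, hdb⟩ : β d a = 0 ∧ β d (k a) = 0 := by
      rcases hd with rfl | rfl | rfl <;> simp [h1, h2, h3, h4, S.add]
    obtain ⟨y, hyd, hya, hyb⟩ : ∃ y, β y d = 1 ∧ β y a = 0 ∧ β y (k a) = 0 := by
      rcases hd with rfl | rfl | rfl
      · exact ⟨o', by rw [S.symm]; exact hoo, h3, h4⟩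
      · exact ⟨o, hoo, h1, h2⟩
      · exact ⟨o, by rw [S.add_right, S.alt, hoo, zero_add], h1, h2⟩
    obtain ⟨k', hk', hk'x⟩ := comm k hk a d ha hd'
    have hfix : k' a = a := by
      have e1 : β a (k d) = 0 := by
        conv_lhs => rw [← hkk]
        rw [I.form, S.symm]; exact hdb
      rw [hk'x, S.refl_self, fix_eq (show β a d = 0 by rw [S.symm]; exact hda), fix_eq e1, fix_eq e0]
    have h := hk'x y
    rw [fixed k' hk' a ha hfix y, fix_eq hya, move_eq hyd] at h
    have hyd0 : β (y + d) (k a) = 0 := by rw [S.add, hyb, hdb, add_zero]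
    rcases z01 (β (y + d) (k d)) with e | e
    · rw [fix_eq e, fix_eq hyd0] at h
      exact h0 hd' (by simpa using h.symm)
    · rw [move_eq e] at h
      have e' : β (y + d + k d) (k a) = 0 := by rw [S.add, hyd0, I.form, hda, add_zero]
      rw [fix_eq e', add_assoc] at h
      exact nofix d hd' (S.eq_of_add (by simpa using h.symm)).symm
  -- order three
  obtain ⟨a, ha, -, -⟩ := S.exists_root_perp 0 0
  have ε := hall a ha
  obtain ⟨o, o', hoo, h1, h2, h3, h4⟩ := S.exists_perp a (k a)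
  obtain ⟨d, hd, hd'⟩ := S.exists_one hoo 0
  rw [S.zero_left, add_zero] at hd'
  obtain ⟨hda, hdb⟩ : β d a = 0 ∧ β d (k a) = 0 := by
    rcases hd with rfl | rfl | rfl <;> simp [h1, h2, h3, h4, S.add]
  have hdd : β d (k d) = 1 := hall d hd'
  have hkd2 : k (k d) = d + k d := by rw [sq d hd', if_pos hdd]
  have hkb : β (k d) (k a) = 0 := (I.form d a).trans hda
  have hka : β (k d) a = 0 := by
    have h := I.form (k d) a
    rw [hkd2, S.add, hdb, zero_add, hkb] at h
    exact h.symm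
  obtain ⟨z, z', hzz, ⟨e1, e2, e3, e4⟩, ⟨e1', e2', e3', e4'⟩⟩ := S.exists_perp_pairs ε hdd hda hdb hka hkb
  obtain ⟨w, hw, hw'⟩ := S.exists_one hzz 0
  rw [S.zero_left, add_zero] at hw'
  obtain ⟨w1, w2, w3, w4⟩ : β w a = 0 ∧ β w (k a) = 0 ∧ β w d = 0 ∧ β w (k d) = 0 := by
    rcases hw with rfl | rfl | rfl <;> simp [e1, e2, e3, e4, e1', e2', e3', e4', S.add]
  obtain ⟨k', hk', hk'x⟩ := comm k hk a d ha hd'
  have hk'w : k' w = w := by rw [hk'x, fix_eq w1, fix_eq w3, fix_eq w4, fix_eq w2]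
  have h := fixed k' hk' w hw' hk'w a
  have hda' : β a d = 0 := by rw [S.symm]; exact hda
  have hka' : β a (k d) = 0 := by rw [S.symm]; exact hka
  rw [hk'x, S.refl_self, fix_eq hda', fix_eq hka', move_eq ε] at h
  exact h0 ((I.quad a).trans ha) (by simpa using h)

variable {κ : Type} [Fintype κ] [DecidableEq κ] [Nonempty κ] {F : Type*} [Field F] [Fintype F]

/-- **The kernel.** -/
theorem kernel_le (h8 : 8 ≤ Fintype.card κ) {S : Subgroup (GL κ F)} (D : Data S) (hS : S ≤ orth κ F)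
    {K : Subgroup (GL κ F)} (hSK : S ≤ K) (hKO : K ≤ orth κ F)
    (hnorm : ∀ n ∈ subgroupNormalizer S, n ∈ orth κ F → ∀ k ∈ K, n * k * n⁻¹ ∈ K)
    (hfix : ∀ k ∈ K, ∀ v ∈ S, v * v = -1 → k * v = v * k → k ∈ S) : K ≤ S := by
  classical
  have hsc : ∀ s ∈ S, s ∈ scalars κ F → s * s = 1 := fun s hs hss => by
    rcases scalar_orth D.two hss (hS hs) with e | e <;> rw [e] <;> simp
  have absorb : ∀ {k w : GL κ F}, k ∈ K → w ∈ S → w⁻¹ * k ∈ scalars κ F → k ∈ S := by
    intro k w hk hw h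
    rcases scalar_orth D.two h (mul_mem (inv_mem (hS hw)) (hKO hk)) with e | e
    · exact inv_mul_eq_one.1 e ▸ hw
    · rw [inv_mul_eq_iff_eq_mul] at e
      exact e ▸ S.mul_mem hw D.neg
  have hpm : ∀ {k v : GL κ F}, k ∈ K → v ∈ S → v * v = -1 → (k * v * k⁻¹ = v ∨ k * v * k⁻¹ = -v) → k ∈ S := by
    rintro k v hk hv hv2 (e | e)
    · exact hfix k hk v hv hv2 (mul_inv_eq_iff_eq_mul.1 e)
    · obtain ⟨y, hy, hvy⟩ := D.exists_anti hv (ns_root D hS hv hv2)
      have hky : k * y * v = v * (k * y) := by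
        rw [mul_assoc, show y * v = -(v * y) by rw [hvy, neg_neg], mul_neg, ← mul_assoc, mul_inv_eq_iff_eq_mul.1 e]
        simp [mul_assoc]
      have := S.mul_mem (hfix _ (K.mul_mem hk (hSK hy)) v hv hv2 hky) (S.inv_mem hy)
      rwa [mul_inv_cancel_right] at this
  -- elements normalising `S`
  have stepA : ∀ k ∈ K, k ∈ subgroupNormalizer S → k ∈ S := by
    intro k₀ hk₀ hk₀N
    have Sp := space D hsc h8
    have A := ambient D hS h8
    let P : Set (SympPow.classSpace D → SympPow.classSpace D) :=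
      {φ | ∃ k ∈ K, ∃ h : k ∈ subgroupNormalizer S, φ = act D h}
    have hns : ∀ {z}, z ∈ S → z * z = -1 → z ∉ scalars κ F := fun hz e => ns_root D hS hz e
    have comm : ∀ φ ∈ P, ∀ a b, quad D a = 1 → quad D b = 1 →
        ∃ φ' ∈ P, ∀ x, φ' x = SympPow.refl (form D) (φ a) (SympPow.refl (form D) (φ b) (SympPow.refl (form D) b (SympPow.refl (form D) a x))) := by
      rintro _ ⟨k, hk, hkN, rfl⟩ a b ha hb
      obtain ⟨z, hz, rfl⟩ : ∃ z, ∃ hz : z ∈ S, cls D hz = a := ⟨_, rep_mem D a, cls_rep D a⟩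
      obtain ⟨z', hz', rfl⟩ : ∃ z, ∃ hz : z ∈ S, cls D hz = b := ⟨_, rep_mem D b, cls_rep D b⟩
      have hz2 := (quad_cls_neg D hsc hz).2 ha
      have hz'2 := (quad_cls_neg D hsc hz').2 hb
      obtain ⟨n, -, s₀, hs₀, hns₀⟩ := D.trans_root h8 A hz hz' hz2 hz'2 (hns hz hz2) (hns hz' hz'2)
      obtain ⟨t, t', γ, ht, ht', hγ, s, hs, hγs⟩ := D.exists_pair A hz hz' hz2 hz'2 (hns hz hz2)
        ⟨n, D.sign_of_conj hz hz' (hz'2.trans hz2.symm) hs₀ hns₀⟩
      have hk'K : k * γ * k⁻¹ * γ⁻¹ ∈ K := by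
        rw [show k * γ * k⁻¹ * γ⁻¹ = k * (γ * k⁻¹ * γ⁻¹) by group]
        exact K.mul_mem hk (hnorm γ hγ.1 (omega_le hγ.2) _ (K.inv_mem hk))
      have hk'N : k * γ * k⁻¹ * γ⁻¹ ∈ subgroupNormalizer S :=
        mul_mem (mul_mem (mul_mem hkN hγ.1) (inv_mem hkN)) (inv_mem hγ.1)
      refine ⟨_, ⟨_, hk'K, hk'N, rfl⟩, fun f => ?_⟩
      have hγact : ∀ g, act D hγ.1 g = SympPow.refl (form D) (cls D hz) (SympPow.refl (form D) (cls D hz') g) := by
        intro g
        obtain ⟨x, hx, rfl⟩ : ∃ x, ∃ hx : x ∈ S, cls D hx = g := ⟨_, rep_mem D g, cls_rep D g⟩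
        obtain ⟨h, e⟩ := cls_pair D hsc hz hz' hz2 hz'2 ht ht' hs hγs hx
        rw [act_cls D hγ.1 hx, ← e]
      obtain ⟨g, hg⟩ : ∃ g, g = SympPow.refl (form D) (cls D hz') (SympPow.refl (form D) (cls D hz) f) := ⟨_, rfl⟩
      have hfg : f = SympPow.refl (form D) (cls D hz) (SympPow.refl (form D) (cls D hz') g) := by
        rw [hg, Sp.refl_refl, Sp.refl_refl]
      have hconj : ∀ v y, act D hkN (SympPow.refl (form D) v y) =
          SympPow.refl (form D) (act D hkN v) (act D hkN y) := fun v y => by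
        have I := act_isIso D hsc hkN
        simp only [SympPow.refl, I.form]
        split_ifs <;> simp [I.map_add]
      obtain ⟨u, hu, huf⟩ : ∃ u, ∃ hu : u ∈ S, cls D hu = g := ⟨_, rep_mem D g, cls_rep D g⟩
      have hγu : γ * u * γ⁻¹ ∈ S := (Subgroup.mem_normalizer_iff.1 hγ.1 u).1 hu
      have e1 : cls D hγu = f := by rw [← act_cls D hγ.1 hu, huf, hγact, ← hfg]
      obtain ⟨w, hw⟩ : ∃ w, w = k⁻¹ * u * k := ⟨_, rfl⟩
      have hwS : w ∈ S := by
        have := (Subgroup.mem_normalizer_iff.1 ((subgroupNormalizer _).inv_mem hkN) u).1 hu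
        rwa [inv_inv, ← hw] at this
      have e2 : act D hkN (cls D hwS) = g := by
        rw [act_cls D hkN hwS, ← huf]
        exact (cls_eq_iff D _ _).2 (by rw [hw]; simp [mul_assoc, one_mem])
      have hγw : γ * w * γ⁻¹ ∈ S := (Subgroup.mem_normalizer_iff.1 hγ.1 w).1 hwS
      have e3 : act D hkN (cls D hγw) =
          SympPow.refl (form D) (act D hkN (cls D hz)) (SympPow.refl (form D) (act D hkN (cls D hz')) g) := by
        rw [← act_cls D hγ.1 hwS, hγact, hconj, hconj, e2]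
      rw [← hg, ← e3, act_cls D hkN hγw, ← e1, act_cls D hk'N hγu]
      refine (cls_eq_iff D _ _).2 ?_
      rw [hw, show k * γ * k⁻¹ * γ⁻¹ * (γ * u * γ⁻¹) * (k * γ * k⁻¹ * γ⁻¹)⁻¹ =
        k * (γ * (k⁻¹ * u * k) * γ⁻¹) * k⁻¹ by group, inv_mul_cancel]
      exact one_mem _
    have fixed : ∀ φ ∈ P, ∀ w, quad D w = 1 → φ w = w → ∀ x, φ x = x := by
      rintro _ ⟨k, hk, hkN, rfl⟩ w hw hkw
      obtain ⟨v, hv, rfl⟩ : ∃ v, ∃ hv : v ∈ S, cls D hv = w := ⟨_, rep_mem D w, cls_rep D w⟩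
      have hv2 := (quad_cls_neg D hsc hv).2 hw
      rw [act_cls, cls_eq_iff] at hkw
      have hkS : k ∈ S := by
        refine hpm hk hv hv2 (D.sign_of_conj hv hv rfl (inv_mem hkw) ?_)
        rw [scalar_comm (inv_mem hkw) v]
        group
      intro x
      obtain ⟨y, hy, rfl⟩ : ∃ y, ∃ hy : y ∈ S, cls D hy = x := ⟨_, rep_mem D x, cls_rep D x⟩
      rw [act_cls, cls_eq_iff]
      rcases D.comm k hkS y hy with e | e
      · rw [e, mul_inv_cancel_right, inv_mul_cancel]; exact one_mem _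
      · rw [e, neg_mul, mul_inv_cancel_right]
        simpa using neg_one_mem_scalars
    have hid := rigid_of_fixed Sp (P := P) (by rintro _ ⟨k, -, h, rfl⟩; exact act_isIso D hsc h) comm fixed _
      ⟨k₀, hk₀, hk₀N, rfl⟩
    obtain ⟨w, hw, hwk⟩ := D.inner (n := k₀) fun x hx => by
      have h := hid (cls D hx)
      rw [act_cls, cls_eq_iff] at h
      rcases D.sign_of_conj hx hx rfl (inv_mem h) (n := k₀) (by rw [scalar_comm (inv_mem h) x]; group) with e | e
      · exact Or.inl (mul_inv_eq_iff_eq_mul.1 e)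
      · exact Or.inr (by rw [← neg_mul]; exact mul_inv_eq_iff_eq_mul.1 e)
    exact absorb hk₀ hw hwk
  -- the quotient by the signs
  obtain ⟨W, hW⟩ : ∃ W, W = barW K S := ⟨_, rfl⟩
  have memW : ∀ {k : ↥K}, proj K k ∈ W ↔ (k : GL κ F) ∈ S := by
    intro k
    refine ⟨fun h => ?_, fun h => hW ▸ ⟨k, Subgroup.mem_subgroupOf.2 h, rfl⟩⟩
    rw [hW] at h
    obtain ⟨y, hy, hyk⟩ := h
    exact absorb k.2 (Subgroup.mem_subgroupOf.1 hy) (proj_eq.1 hyk)
  have hsurj : Function.Surjective (proj K) := QuotientGroup.mk'_surjective _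
  have sqW : ∀ a ∈ W, a * a = 1 := fun a ha => by
    obtain ⟨k, rfl⟩ := hsurj a
    rw [← map_mul, proj_eq_one, Subgroup.coe_mul]
    rcases D.sq _ (memW.1 ha) with e | e <;> rw [e]
    · exact one_mem _
    · exact neg_one_mem_scalars
  have invW : ∀ a ∈ W, a⁻¹ = a := fun a ha => inv_eq_of_mul_eq_one_left (sqW a ha)
  have commW : ∀ a ∈ W, ∀ b ∈ W, a * b = b * a := fun a ha b hb => by
    conv_lhs => rw [← invW _ (W.mul_mem ha hb), _root_.mul_inv_rev, invW a ha, invW b hb]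
  have selfW : ∀ y : SympType.Q K, (∀ a ∈ W, y * a * y⁻¹ ∈ W) → (∀ a ∈ W, y⁻¹ * a * y ∈ W) → y ∈ W := by
    intro y h1 h2
    obtain ⟨k, rfl⟩ := hsurj y
    refine memW.2 (stepA k k.2 (Subgroup.mem_normalizer_iff.2 fun x => ⟨fun hx => ?_, fun hx => ?_⟩))
    · have := h1 _ ((memW (k := ⟨x, hSK hx⟩)).2 hx)
      rw [← map_inv, ← map_mul, ← map_mul, memW] at this
      exact this
    · have := h2 _ ((memW (k := ⟨_, hSK hx⟩)).2 hx)
      rw [← map_inv, ← map_mul, ← map_mul, memW] at this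
      simpa [mul_assoc] using this
  -- `W` is a Sylow subgroup
  have := Fact.mk Nat.prime_two
  have hW2 : IsPGroup 2 W := fun a => ⟨1, by
    rw [pow_one, pow_two]; exact Subtype.ext (sqW a a.2)⟩
  obtain ⟨P, hP⟩ := hW2.exists_le_sylow
  have hPW : (P : Subgroup (SympType.Q K)) = W := by
    refine le_antisymm (by_contra fun hne => ?_) hP
    have : Group.IsNilpotent (P : Subgroup (SympType.Q K)) := P.2.isNilpotent
    have hlt : W.subgroupOf P < ⊤ := lt_top_iff_ne_top.2 fun h => hne (Subgroup.subgroupOf_eq_top.1 h)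
    obtain ⟨y, hyN, hy⟩ := SetLike.exists_of_lt (Group.normalizerCondition_of_isNilpotent _ hlt)
    refine hy (Subgroup.mem_subgroupOf.2 (selfW y (fun a ha => ?_) fun a ha => ?_))
    · exact Subgroup.mem_subgroupOf.1
        ((Subgroup.mem_normalizer_iff.1 hyN ⟨a, hP ha⟩).1 (Subgroup.mem_subgroupOf.2 ha))
    · have := Subgroup.mem_subgroupOf.1
        ((Subgroup.mem_normalizer_iff.1 (inv_mem hyN) ⟨a, hP ha⟩).1 (Subgroup.mem_subgroupOf.2 ha))
      simpa using this
  have hPc : Subgroup.normalizer ((P : Subgroup (SympType.Q K)) : Set (SympType.Q K)) ≤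
      Subgroup.centralizer ((P : Subgroup (SympType.Q K)) : Set (SympType.Q K)) := by
    intro y hy
    rw [hPW] at hy ⊢
    have hyW : y ∈ W := selfW y (fun a ha => (Subgroup.mem_normalizer_iff.1 hy a).1 ha) fun a ha => by
      simpa using (Subgroup.mem_normalizer_iff.1 (inv_mem hy) a).1 ha
    exact Subgroup.mem_centralizer_iff.2 fun a ha => commW a ha y hyW
  have hcomp := MonoidHom.ker_transferSylow_isComplement' P hPc
  have hodd := MonoidHom.not_dvd_card_ker_transferSylow P hPc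
  obtain ⟨O, hO⟩ : ∃ O, O = (MonoidHom.transferSylow P hPc).ker := ⟨_, rfl⟩
  rw [← hO, hPW] at hcomp
  rw [← hO] at hodd
  have : O.Normal := hO ▸ inferInstance
  have hdisj : ∀ z ∈ O, z ∈ W → z = 1 := fun z hzO hzW =>
    Subgroup.disjoint_def.1 hcomp.disjoint hzO hzW
  -- square roots of `-1` invert the complement
  have hinv : ∀ {v} (hv : v ∈ S), v * v = -1 → ∀ z ∈ O,
      proj K ⟨v, hSK hv⟩ * z * (proj K ⟨v, hSK hv⟩)⁻¹ = z⁻¹ := by
    intro v hv hv2
    obtain ⟨w, hw⟩ : ∃ w, w = proj K ⟨v, hSK hv⟩ := ⟨_, rfl⟩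
    rw [← hw]
    have hwW : w ∈ W := hw ▸ memW.2 hv
    have hwi := invW w hwW
    have hcent : ∀ y, y * w = w * y → y ∈ W := fun y hy => by
      obtain ⟨k, rfl⟩ := hsurj y
      refine memW.2 (hpm k.2 hv hv2 ?_)
      have h : proj K (k * ⟨v, hSK hv⟩ * k⁻¹) = proj K ⟨v, hSK hv⟩ := by
        rw [map_mul, map_mul, map_inv, ← hw, hy, mul_inv_cancel_right]
      have hs := proj_eq.1 h
      exact D.sign_of_conj hv hv rfl (inv_mem hs) (by rw [scalar_comm (inv_mem hs) v]; simp [mul_assoc])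
    let f : ↥O → ↥O := fun x => ⟨(x : SympType.Q K)⁻¹ * (w * x * w⁻¹),
      O.mul_mem (O.inv_mem x.2) (Subgroup.Normal.conj_mem inferInstance _ x.2 w)⟩
    have hf : Function.Injective f := fun x y h => by
      have e : (x : SympType.Q K)⁻¹ * (w * x * w⁻¹) = (y : SympType.Q K)⁻¹ * (w * y * w⁻¹) := congrArg Subtype.val h
      refine Subtype.ext (mul_inv_eq_one.1 (hdisj _ (O.mul_mem x.2 (O.inv_mem y.2)) (hcent _ ?_)))
      calc (x : SympType.Q K) * (y : SympType.Q K)⁻¹ * w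
          = x * ((y : SympType.Q K)⁻¹ * (w * y * w⁻¹)) * w * (y : SympType.Q K)⁻¹ := by group
        _ = w * (x * (y : SympType.Q K)⁻¹) := by rw [← e]; group
    intro z hz
    obtain ⟨x, hx⟩ := Finite.surjective_of_injective hf ⟨z, hz⟩
    have hxz : (x : SympType.Q K)⁻¹ * (w * x * w⁻¹) = z := congrArg Subtype.val hx
    rw [← hxz, hwi]
    have hww := sqW w hwW
    calc w * ((x : SympType.Q K)⁻¹ * (w * x * w)) * w
        = w * (x : SympType.Q K)⁻¹ * w * x * (w * w) := by group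
      _ = w⁻¹ * (x : SympType.Q K)⁻¹ * w⁻¹ * x := by rw [hww, hwi, mul_one]
      _ = _ := by group
  -- two anticommuting square roots of `-1`
  obtain ⟨a, b, ha, hb, ha2, hb2, hab⟩ : ∃ a b, a ∈ S ∧ b ∈ S ∧ a * a = -1 ∧ b * b = -1 ∧ a * b = -(b * a) := by
    have Sp := space D hsc h8
    obtain ⟨f, hf, -, -⟩ := Sp.exists_root_perp 0 0
    have hf0 : f ≠ 0 := fun e => by simp [e, Sp.q_zero] at hf
    obtain ⟨g, hg⟩ := Sp.exists_bit hf0
    obtain ⟨g', hg'q, hg'⟩ : ∃ g', quad D g' = 1 ∧ form D f g' = 1 := by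
      rcases z01 (quad D g) with e | e
      · obtain ⟨o, ho, hof, hog⟩ := Sp.exists_root_perp f g
        exact ⟨g + o, by rw [Sp.quad, e, ho, Sp.symm, hog]; simp,
          by rw [Sp.add_right, hg, Sp.symm, hof, add_zero]⟩
      · exact ⟨g, e, hg⟩
    exact ⟨_, _, rep_mem D f, rep_mem D g', quad_rep D hsc hf, quad_rep D hsc hg'q,
      (D.bit_eq_one (rep_mem D f) (rep_mem D g')).1 hg'⟩
  have hab2 : a * b * (a * b) = -1 := by
    rw [show a * b * (a * b) = a * (b * a) * b by group, show b * a = -(a * b) by rw [hab, neg_neg], mul_neg,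
      neg_mul, ← mul_assoc, mul_assoc (a * a), ha2, hb2]
    simp
  have hO1 : ∀ z ∈ O, z = 1 := fun z hz => by
    have h := hinv (S.mul_mem ha hb) hab2 z hz
    have e : (⟨a * b, hSK (S.mul_mem ha hb)⟩ : ↥K) = ⟨a, hSK ha⟩ * ⟨b, hSK hb⟩ := rfl
    rw [e, map_mul, _root_.mul_inv_rev] at h
    have h' : proj K ⟨a, hSK ha⟩ * (proj K ⟨b, hSK hb⟩ * z * (proj K ⟨b, hSK hb⟩)⁻¹) *
        (proj K ⟨a, hSK ha⟩)⁻¹ = z⁻¹ := by
      rw [← h]; group
    rw [hinv hb hb2 z hz, hinv ha ha2 _ (O.inv_mem hz), inv_inv] at h'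
    have hz2 : z * z = 1 := by nth_rewrite 2 [h']; exact mul_inv_cancel z
    by_contra hz1
    refine hodd ?_
    rw [← orderOf_eq_prime (p := 2) (by rw [pow_two]; exact hz2) hz1]
    exact Subgroup.orderOf_dvd_natCard O hz
  intro k hk
  obtain ⟨⟨z, w⟩, hzw⟩ := hcomp.2 (proj K ⟨k, hk⟩)
  have hkW : proj K ⟨k, hk⟩ ∈ W := by
    rw [← hzw]
    show (z : SympType.Q K) * (w : SympType.Q K) ∈ W
    rw [hO1 z z.2, one_mul]
    exact w.2
  exact memW.1 hkW

end CfsgLib.OrthPow
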