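import Cfsg.Agent.OrthPow.Half
import Cfsg.Agent.OrthPow.Kernel
import Cfsg.Agent.SympPow.Sp
import Cfsg.Agent.SympType.Normaliser

/-!
# The normaliser of `2^{1+2k}₊` is maximal in `Ω` of a sum of squares
-/

set_option autoImplicit false
set_option linter.unusedSectionVars false

namespace CfsgLib.OrthPow

open Matrix Cfsg.Geo CfsgLib.SympType
open CfsgLib.SympPow (ThetaBase mem_normalizer_of_forall exists_partner exists_involution)
open CfsgLib.SpEight (theta unitJ)
open scoped commutatorElement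

local notation:max "mat" => Units.val

variable {F : Type*} [Field F] [Fintype F] {m : ℕ}

local notation "ι" => (Fin m ⊕ Fin m)

variable {L : Type*} [Field L] [Fintype L] {ψ : F →+* L} {c : L} {hc : c * c = -1} {k : ℕ}
  {K : Subgroup (GL (Fin m) L)} (B : ThetaBase ψ c hc m k K)
  (perf : (Matrix.GeneralLinearGroup.det.comp (theta (m := m) ψ c hc)).ker ≤
    ⁅(Matrix.GeneralLinearGroup.det.comp (theta (m := m) ψ c hc)).ker,
      (Matrix.GeneralLinearGroup.det.comp (theta (m := m) ψ c hc)).ker⁆)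
  {l : ℕ} (hml : m = l + l) (hl2 : 2 ∣ l) (hm8 : 8 ≤ m)
  {R H : Subgroup (GL (Fin m ⊕ Fin m) F)} (D : Data R) (hR : R ≤ orth (Fin m ⊕ Fin m) F)
  (hcard : Nat.card R = 2 ^ (1 + 2 * k))
  (hlow : subgroupNormalizer R ⊓ omega (Fin m ⊕ Fin m) F ≤ H) (hhigh : H ≤ omega (Fin m ⊕ Fin m) F)
  (hne : ¬ omega (Fin m ⊕ Fin m) F ≤ H)

include B perf hml hl2 hm8 D hR hcard hlow hhigh hne

/-- The centraliser of a root normalises the centraliser of the root in `R`. -/
theorem half_root {x : GL ι F} (hx : x ∈ R) (hx2 : x * x = -1) {g : GL ι F} (hg : g ∈ H) (hgx : g * x = x * g)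
    {z : GL ι F} (hz : z ∈ R) (hzx : z * x = x * z) : g * z * g⁻¹ ∈ R := by
  haveI : Nonempty ι := ⟨Sum.inl ⟨0, by omega⟩⟩
  obtain ⟨M, N, h₁, h₂, hM, hMx⟩ := exists_orth_frame D.two (η := ι) (m := m) (by simp) 1 transpose_one
    (fun u hu => funext fun i => by
      have := hu (Pi.single i 1)
      rwa [one_mulVec, dotProduct_single, mul_one] at this) hx2
    (by rw [Matrix.mul_one]; exact (mem_orth_iff D.two).1 (hR hx))
  rw [Matrix.mul_one] at hM
  obtain rfl : N = Mᵀ := by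
    calc N = Mᵀ * M * N := by rw [hM, Matrix.one_mul]
      _ = Mᵀ := by rw [Matrix.mul_assoc, h₁, Matrix.mul_one]
  obtain ⟨φ, hφ⟩ : ∃ φ, φ = coordEquiv M Mᵀ h₁ h₂ := ⟨_, rfl⟩
  have hφo : ∀ z, φ z ∈ orth ι F ↔ z ∈ orth ι F := fun z => by rw [hφ]; exact coord_mem_orth D.two h₁ h₂
  have hφΩ : ∀ z, φ z ∈ omega ι F ↔ z ∈ omega ι F := fun z => by rw [hφ]; exact coord_mem_omega D.two h₁ h₂
  have hN : (subgroupNormalizer R).comap φ.toMonoidHom = subgroupNormalizer (R.comap φ.toMonoidHom) := by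
    rw [hφ]; exact normalizer_comap
  rw [← hφ] at hMx
  obtain ⟨g', rfl⟩ := φ.surjective g
  obtain ⟨z', rfl⟩ := φ.surjective z
  have := half_unitJ B perf hml hl2 hm8 (R := R.comap φ.toMonoidHom) (H := H.comap φ.toMonoidHom)
    (hφ ▸ D.comap) (fun w hw => (hφo w).1 (hR hw))
    (by rw [← hcard]; exact Nat.card_congr (φ.toEquiv.subtypeEquiv fun g => Iff.rfl))
    (show φ (unitJ m F) ∈ R by rw [hMx]; exact hx)
    (fun w hw => hlow ⟨(hN ▸ hw.1 : w ∈ (subgroupNormalizer R).comap φ.toMonoidHom), (hφΩ w).2 hw.2⟩)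
    (fun w hw => (hφΩ w).1 (hhigh hw))
    (fun h => hne fun w hw => by
      obtain ⟨w', rfl⟩ := φ.surjective w
      exact h ((hφΩ w').1 hw))
    (g := g') hg (φ.injective (by rw [map_mul, map_mul, hMx]; exact hgx))
    (x := z') hz (φ.injective (by rw [map_mul, map_mul, hMx]; exact hzx))
  change φ (g' * z' * g'⁻¹) ∈ R at this
  rwa [map_mul, map_mul, map_inv] at this

/-- Centralisers of involutions. -/
theorem cent_plus {g u : GL ι F} (hg : g ∈ H) (hu : u ∈ R) (huns : u ∉ scalars ι F) (hu2 : u * u = 1)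
    (hgu : g * u = u * g) : g ∈ subgroupNormalizer R := by
  classical
  haveI : Nonempty (Fin m) := ⟨⟨0, by omega⟩⟩
  haveI : Nonempty ι := ⟨Sum.inl ⟨0, by omega⟩⟩
  have h8' : 8 ≤ Fintype.card (Fin m) := by simpa using hm8
  obtain ⟨y, hy, hy2, huy⟩ := exists_partner D hu huns hu2
  obtain ⟨M, hMN, hNM, hsg, hsw, S, hle⟩ := exists_split hml (by omega) D hR hu hy hu2 hy2 huy
  obtain ⟨φ, hφ⟩ : ∃ φ, φ = coordEquiv M Mᵀ hMN hNM := ⟨_, rfl⟩
  have hφo : ∀ z, φ z ∈ orth ι F ↔ z ∈ orth ι F := fun z => by rw [hφ]; exact coord_mem_orth D.two hMN hNM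
  have hφΩ : ∀ z, φ z ∈ omega ι F ↔ z ∈ omega ι F := fun z => by rw [hφ]; exact coord_mem_omega D.two hMN hNM
  have hN : (subgroupNormalizer R).comap φ.toMonoidHom = subgroupNormalizer (R.comap φ.toMonoidHom) := by
    rw [hφ]; exact normalizer_comap
  rw [← hφ] at hsg hsw S hle
  obtain ⟨R', hR'⟩ : ∃ R', R' = R.comap φ.toMonoidHom := ⟨_, rfl⟩
  rw [← hR'] at S hle hN
  have memR : ∀ {z}, z ∈ R' ↔ φ z ∈ R := fun {z} => by rw [hR']; exact Iff.rfl
  have low : ∀ {z}, z ∈ subgroupNormalizer R' → z ∈ omega ι F → φ z ∈ H := fun {z} hz hzΩ =>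
    hlow ⟨(hN ▸ hz : z ∈ (subgroupNormalizer R).comap φ.toMonoidHom), (hφΩ z).2 hzΩ⟩
  have D' := S.small_data
  have hsmall : small R' ≤ orth (Fin m) F := fun _ ha => ((bd_mem_orth D.two).1 (hle ha)).1
  obtain ⟨K', hK'⟩ : ∃ K', K' = H.comap (φ.toMonoidHom.comp (bd.comp
      ((1 : GL (Fin m) F →* GL (Fin m) F).prod (MonoidHom.id _)))) := ⟨_, rfl⟩
  have hK : ∀ {k}, k ∈ K' ↔ φ (bd (1, k)) ∈ H := fun {k} => by rw [hK']; exact Iff.rfl
  have diag : ∀ {n}, n ∈ subgroupNormalizer (small R') → n ∈ orth (Fin m) F → φ (bd (n, n)) ∈ H :=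
    fun hn ho => low (diag_normalizer S hn) (diag_mem_omega D.two ho)
  have right : ∀ {r}, r ∈ small R' → r ∈ K' := fun hr =>
    hK.2 (low (right_normalizer S hr) (right_mem_omega D.two (le_omega D' hsmall h8' hr)))
  have blocks : ∀ {a b}, φ (bd (a, b)) ∈ H → a ∈ orth (Fin m) F ∧ b ∈ orth (Fin m) F := fun h =>
    (bd_mem_orth D.two).1 (omega_le ((hφΩ _).1 (hhigh h)))
  have hker : K' ≤ small R' := by
    refine kernel_le h8' D' hsmall (fun r hr => right hr) (fun k hk => (blocks (hK.1 hk)).2) (fun n hn ho k hk => ?_)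
      fun k hk v hv hv2 hkv => ?_
    · have h := H.mul_mem (H.mul_mem (diag hn ho) (hK.1 hk)) (H.inv_mem (diag hn ho))
      rw [← map_inv, ← map_mul, ← map_mul, bd_inv, bd_mul, bd_mul, mul_one, mul_inv_cancel] at h
      exact hK.2 h
    · have h2 : φ (bd (v, v)) * φ (bd (v, v)) = -1 := by
        rw [← map_mul, bd_mul, hv2, bd_neg, show bd ((1 : GL (Fin m) F), (1 : GL (Fin m) F)) = 1 from map_one bd, hφ,
          neg_coordEquiv, map_one]
      have h := half_root B perf hml hl2 hm8 D hR hcard hlow hhigh hne (memR.1 (mem_small.1 hv)) h2 (hK.1 hk)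
        (by rw [← map_mul φ, ← map_mul φ, bd_mul, bd_mul, hkv, mul_one, one_mul]) (memR.1 S.sw_mem)
        (by rw [← map_mul, ← map_mul, sw_bd])
      rw [← map_inv, ← map_mul, ← map_mul, ← memR] at h
      have h' := R'.mul_mem h S.sw_mem
      rw [bd_inv, mul_assoc (bd (1, k)), sw_bd, ← mul_assoc (bd (1, k)), bd_mul, mul_assoc, sw_sq, mul_one, inv_one,
        mul_one, one_mul] at h'
      obtain ⟨a, ha, e | e⟩ := S.comm_cases h' (sg_comm_bd _ _).symm <;> rw [bd_inj] at e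
      · rw [e.2]; exact ha
      · rw [e.2]; exact D'.neg_mem ha
  obtain ⟨g', rfl⟩ := φ.surjective g
  obtain ⟨a, b, rfl⟩ := exists_bd_of_comm D.two (g := g') (φ.injective (by rw [map_mul, map_mul, hsg]; exact hgu))
  have norm : ∀ {a b}, φ (bd (a, b)) ∈ H → b ∈ subgroupNormalizer (small R') := fun {a b} h => by
    refine mem_normalizer_of_forall fun r hr => hker (hK.2 ?_)
    have := H.mul_mem (H.mul_mem h (hK.1 (right hr))) (H.inv_mem h)
    rwa [← map_inv, ← map_mul, ← map_mul, bd_inv, bd_mul, bd_mul, mul_one, mul_inv_cancel] at this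
  have hswH : φ sw ∈ H := hlow ⟨Subgroup.le_normalizer (memR.1 S.sw_mem),
    le_omega D hR (by simp; omega) (memR.1 S.sw_mem)⟩
  have hba : φ (bd (b, a)) ∈ H := by
    rw [← sw_conj, map_mul, map_mul, map_inv]
    exact H.mul_mem (H.mul_mem hswH hg) (H.inv_mem hswH)
  have haN := norm hba
  have hbN := norm hg
  have haa := diag haN (blocks hg).1
  have hab : a⁻¹ * b ∈ small R' := hker (hK.2 (by
    have := H.mul_mem (H.inv_mem haa) hg
    rwa [← map_inv, ← map_mul, bd_inv, bd_mul, inv_mul_cancel] at this))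
  have hfin : bd (a, b) ∈ subgroupNormalizer R' := by
    rw [show bd (a, b) = bd (a, a) * bd (1, a⁻¹ * b) by rw [bd_mul, mul_one, mul_inv_cancel_left]]
    exact mul_mem (diag_normalizer S haN) (right_normalizer S hab)
  rw [← hN] at hfin
  exact hfin

/-- Centralisers of roots. -/
theorem cent_root {g x : GL ι F} (hg : g ∈ H) (hx : x ∈ R) (hx2 : x * x = -1) (hgx : g * x = x * g) :
    g ∈ subgroupNormalizer R := by
  classical
  haveI : Nonempty ι := ⟨Sum.inl ⟨0, by omega⟩⟩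
  have h8 : 8 ≤ Fintype.card ι := by simp; omega
  have A := ambient D hR h8
  have hxns := ns_root D hR hx hx2
  obtain ⟨y, hy, hxy⟩ := D.exists_anti hx hxns
  have hb : bit x y = 1 := (D.bit_eq_one hx hy).2 hxy
  obtain ⟨o, ho, o', ho', e1, -, e3, -, e5⟩ :=
    D.exists_orth_anti h8 hx hy hxns (D.ns_of_bit (y := x) (by rwa [bit_comm])) fun h => by
      have e := D.bit_mul (R.inv_mem hx) hy hx
      rw [bit_eq_zero.2 (scalar_comm h x), bit_eq_zero.2 (Commute.inv_left (Commute.refl x)).eq, zero_add, bit_comm,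
        hb] at e
      exact zero_ne_one e
  obtain ⟨u, hu, hu2, hux, huns⟩ : ∃ u ∈ R, u * u = 1 ∧ u * x = x * u ∧ u ∉ scalars ι F := by
    rcases D.sq o ho with h | h
    · exact ⟨o, ho, h, bit_eq_zero.1 e1, D.ns_of_bit e5⟩
    · refine ⟨o * x, R.mul_mem ho hx, ?_, ?_, D.ns_of_bit (y := o') ?_⟩
      · rw [mul_assoc, ← mul_assoc x, ← bit_eq_zero.1 e1, mul_assoc o x x, hx2, ← mul_assoc, h, neg_mul_neg, one_mul]
      · rw [bit_eq_zero.1 e1, mul_assoc, bit_eq_zero.1 e1]
      · rw [D.bit_mul ho hx ho', e5, bit_comm, e3, add_zero]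
  have hgu : g * u * g⁻¹ ∈ R := half_root B perf hml hl2 hm8 D hR hcard hlow hhigh hne hx hx2 hg hgx hu hux
  have hguns : g * u * g⁻¹ ∉ scalars ι F := fun h => huns (by
    rw [show u = g⁻¹ * (g * u * g⁻¹) * g by group, ← scalar_comm h g⁻¹, inv_mul_cancel_right]; exact h)
  obtain ⟨n, hn, hnu⟩ := D.trans_plus A h8 hgu hu
    (by rw [show g * u * g⁻¹ * (g * u * g⁻¹) = g * (u * u) * g⁻¹ by group, hu2]; group) hu2 hguns huns
  obtain ⟨w, hw, hwu⟩ := D.exists_anti hu huns
  have hngH : n * g ∈ H := H.mul_mem (hlow hn) hg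
  have hmain : n * g ∈ subgroupNormalizer R := by
    rcases hnu with e | e
    · refine cent_plus B perf hml hl2 hm8 D hR hcard hlow hhigh hne hngH hu huns hu2 (mul_inv_eq_iff_eq_mul.1 ?_)
      rw [show n * g * u * (n * g)⁻¹ = n * (g * u * g⁻¹) * n⁻¹ by group, e]
    · have e' : n * g * u = -(u * (n * g)) := by
        rw [← neg_mul, ← mul_inv_eq_iff_eq_mul, show n * g * u * (n * g)⁻¹ = n * (g * u * g⁻¹) * n⁻¹ by group, e]
      have := cent_plus B perf hml hl2 hm8 D hR hcard hlow hhigh hne (g := w * (n * g))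
        (H.mul_mem (hlow ⟨Subgroup.le_normalizer hw, A.le hw⟩) hngH) hu huns hu2 (by
        rw [mul_assoc, e', mul_neg, show u * (w * (n * g)) = u * w * (n * g) by group, hwu, neg_mul, mul_assoc w u])
      have hk := mul_mem (inv_mem (Subgroup.le_normalizer hw : w ∈ subgroupNormalizer R)) this
      rwa [inv_mul_cancel_left] at hk
  simpa using mul_mem ((subgroupNormalizer R).inv_mem hn.1) hmain

omit B perf hcard hlow hhigh hne

/-- `Ω` does not normalise `R`. -/
theorem not_omega_le_normalizer : ¬ omega ι F ≤ subgroupNormalizer R := by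
  classical
  haveI : Nonempty (Fin m) := ⟨⟨0, by omega⟩⟩
  haveI : Nonempty ι := ⟨Sum.inl ⟨0, by omega⟩⟩
  intro hle'
  obtain ⟨u, hu, huns, hu2⟩ := exists_involution D (by simp; omega)
  obtain ⟨y, hy, hy2, huy⟩ := exists_partner D hu huns hu2
  obtain ⟨M, hMN, hNM, hsg, hsw, S, hle⟩ := exists_split hml (by omega) D hR hu hy hu2 hy2 huy
  have hsmall : ∀ {r}, r ∈ omega (Fin m) F → r ∈ small (R.comap (coordEquiv M Mᵀ hMN hNM).toMonoidHom) := by
    intro r hr
    have h : bd (1, r) ∈ subgroupNormalizer (R.comap (coordEquiv M Mᵀ hMN hNM).toMonoidHom) := by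
      rw [← normalizer_comap, Subgroup.mem_comap]
      exact hle' ((coord_mem_omega D.two hMN hNM).2 (right_mem_omega D.two hr))
    have h1 := (Subgroup.mem_normalizer_iff.1 h _).1 S.sw_mem
    have h2 := (R.comap (coordEquiv M Mᵀ hMN hNM).toMonoidHom).mul_mem h1 S.sw_mem
    rw [bd_inv, mul_assoc (bd (1, r)), sw_bd, ← mul_assoc (bd (1, r)), bd_mul, mul_assoc, sw_sq, mul_one, inv_one,
      mul_one, one_mul] at h2
    obtain ⟨a, ha, e | e⟩ := S.comm_cases h2 (sg_comm_bd _ _).symm <;> rw [bd_inj] at e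
    · rw [e.2]; exact ha
    · rw [e.2]; exact S.small_data.neg_mem ha
  obtain ⟨σ, hσ⟩ : ∃ σ : Equiv.Perm (Fin m),
      σ = Equiv.swap ⟨0, by omega⟩ ⟨1, by omega⟩ * Equiv.swap ⟨1, by omega⟩ ⟨2, by omega⟩ := ⟨_, rfl⟩
  obtain ⟨p, hp⟩ : ∃ p : GL (Fin m) F, mat p = σ.permMatrix F :=
    ⟨⟨σ.permMatrix F, (σ⁻¹).permMatrix F, by rw [← Matrix.permMatrix_mul, inv_mul_cancel, Matrix.permMatrix_one],
      by rw [← Matrix.permMatrix_mul, mul_inv_cancel, Matrix.permMatrix_one]⟩, rfl⟩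
  have hpo : p ∈ orth (Fin m) F := mem_orth_of_mul (by
    rw [hp, Matrix.transpose_permMatrix, ← Matrix.permMatrix_mul, mul_inv_cancel, Matrix.permMatrix_one])
  have h := hsmall (sq_mem_omega D.two hpo)
  have hv : mat (p * p * (p * p)) = ((σ * σ) * (σ * σ)).permMatrix F := by
    simp only [Units.val_mul, hp, Matrix.permMatrix_mul]
  have h4 : ((σ * σ) * (σ * σ)) ⟨0, by omega⟩ ≠ ⟨0, by omega⟩ := by
    simp [hσ, Equiv.Perm.mul_apply, Equiv.swap_apply_def]
  have h4' := Ne.symm h4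
  simp only [Equiv.Perm.mul_apply] at h4'
  rcases S.small_data.sq _ h with e | e <;> rw [e] at hv <;>
    have := congrFun (congrFun hv ⟨0, by omega⟩) (((σ * σ) * (σ * σ)) ⟨0, by omega⟩) <;>
    simp [Equiv.Perm.permMatrix, PEquiv.toMatrix_apply, Matrix.one_apply, h4'] at this

include B perf hcard

/-- The normaliser is maximal. -/
theorem isMaximalIn_omega_pow : IsMaximalIn (omega ι F) (subgroupNormalizer R ⊓ omega ι F) := by
  classical
  haveI : Nonempty ι := ⟨Sum.inl ⟨0, by omega⟩⟩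
  have h8 : 8 ≤ Fintype.card ι := by simp; omega
  have A := ambient D hR h8
  refine ⟨lt_of_le_not_ge inf_le_right fun hle => ?_, fun H hlow hhigh => ?_⟩
  · exact not_omega_le_normalizer hml hl2 hm8 D hR (hle.trans inf_le_left)
  by_cases hne : omega ι F ≤ H
  · exact Or.inr (le_antisymm hhigh hne)
  left
  have O : Over (omega ι F) H R := by
    refine ⟨D, A, hlow, hhigh, h8, fun g hg x hx hns hgx => ?_, fun g hg v hv w hw hvns s hs h => ?_⟩
    · rcases D.sq x hx with e | e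
      · exact cent_plus B perf hml hl2 hm8 D hR hcard hlow hhigh hne hg hx hns e hgx
      · exact cent_root B perf hml hl2 hm8 D hR hcard hlow hhigh hne hg hx e hgx
    · have hsX : s ∈ orth ι F := by
        have : g * v * g⁻¹ * w⁻¹ ∈ orth ι F :=
          mul_mem (mul_mem (mul_mem (omega_le (hhigh hg)) (hR hv)) (inv_mem (omega_le (hhigh hg)))) (inv_mem (hR hw))
        rwa [h, mul_inv_cancel_right] at this
      have hwns : w ∉ scalars ι F := fun hws => hvns (by
        have hsw : g * v * g⁻¹ ∈ scalars ι F := h ▸ mul_mem hs hws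
        rw [show v = g⁻¹ * (g * v * g⁻¹) * g by group, ← scalar_comm hsw g⁻¹, inv_mul_cancel_right]
        exact hsw)
      have hwv : w * w = v * v := by
        have e : g * v * g⁻¹ * (g * v * g⁻¹) = v * v := by
          rw [show g * v * g⁻¹ * (g * v * g⁻¹) = g * (v * v) * g⁻¹ by group]
          rcases D.sq v hv with e | e <;> rw [e] <;> simp
        rw [← e, h]
        rcases scalar_orth D.two hs hsX with e' | e' <;> rw [e'] <;> simp
      rcases D.sq v hv with e | e
      · obtain ⟨n, hn, h' | h'⟩ := D.trans_plus A h8 hw hv (hwv.trans e) e hwns hvns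
        · exact ⟨n, hn, 1, one_mem _, by rw [h', one_mul]⟩
        · exact ⟨n, hn, -1, neg_one_mem_scalars, by rw [h', neg_one_mul]⟩
      · exact D.trans_root h8 A hw hv (hwv.trans e) e hwns hvns
  exact le_antisymm (le_inf O.le_normalizer hhigh) hlow

end CfsgLib.OrthPow
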