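import Cfsg.Agent.OrthPow.Coords
import Cfsg.Agent.OrthPow.Ambient

/-!
# Orthogonal coordinates for an involution of a group of symplectic type and a partner
-/

set_option autoImplicit false
set_option linter.unusedSectionVars false

namespace CfsgLib.OrthPow

open Matrix Cfsg.Geo CfsgLib.SympType

local notation:max "mat" => Units.val

variable {η κ : Type} [Fintype η] [DecidableEq η] [Fintype κ] [DecidableEq κ] {F : Type*} [Field F]

/-- An orthonormal frame respects the orthogonal groups. -/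
theorem coord_mem_orth (h2 : (2 : F) ≠ 0) {M : Matrix η κ F} (hMN : M * Mᵀ = 1) (hNM : Mᵀ * M = 1) {g : GL κ F} :
    coordEquiv M Mᵀ hMN hNM g ∈ orth η F ↔ g ∈ orth κ F := by
  rw [mem_orth_iff h2, mem_orth_iff h2, coordEquiv_val, transpose_mul, transpose_mul, transpose_transpose]
  rw [show M * ((mat g)ᵀ * Mᵀ) * (M * mat g * Mᵀ) = M * ((mat g)ᵀ * (Mᵀ * M) * mat g) * Mᵀ by
    simp only [Matrix.mul_assoc], hNM, Matrix.mul_one]
  refine ⟨fun h => ?_, fun h => by rw [h, Matrix.mul_one, hMN]⟩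
  have h' := congrArg (fun X => Mᵀ * X * M) h
  simp only [Matrix.mul_one, hNM] at h'
  rw [← h']
  conv_lhs => rw [← Matrix.one_mul ((mat g)ᵀ * mat g), ← Matrix.mul_one (1 * ((mat g)ᵀ * mat g)), ← hNM]
  simp only [Matrix.mul_assoc]

/-- An orthonormal frame respects `Ω`. -/
theorem coord_mem_omega (h2 : (2 : F) ≠ 0) {M : Matrix η κ F} (hMN : M * Mᵀ = 1) (hNM : Mᵀ * M = 1) {g : GL κ F} :
    coordEquiv M Mᵀ hMN hNM g ∈ omega η F ↔ g ∈ omega κ F := by
  refine ⟨fun h => ?_, fun h => map_omega (coordEquiv M Mᵀ hMN hNM).toMonoidHom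
    (fun _ hx => (coord_mem_orth h2 hMN hNM).2 hx) h⟩
  have := map_omega (coordEquiv M Mᵀ hMN hNM).symm.toMonoidHom (fun x hx => ?_) h
  · simpa using this
  · refine (coord_mem_orth h2 hMN hNM).1 ?_
    simpa using hx

variable {m : ℕ}

local notation "ι" => (Fin m ⊕ Fin m)

theorem bd_mem_orth (h2 : (2 : F) ≠ 0) {a b : GL (Fin m) F} :
    bd (a, b) ∈ orth ι F ↔ a ∈ orth (Fin m) F ∧ b ∈ orth (Fin m) F := by
  rw [mem_orth_iff h2, mem_orth_iff h2, mem_orth_iff h2, bd_val, fromBlocks_transpose, fromBlocks_multiply,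
    ← fromBlocks_one, fromBlocks_inj]
  simp

theorem sw_mem_orth (h2 : (2 : F) ≠ 0) : (sw : GL ι F) ∈ orth ι F := by
  rw [mem_orth_iff h2]
  simp [sw, fromBlocks_transpose, fromBlocks_multiply]

/-- The isometries of the second block. -/
theorem right_mem_omega (h2 : (2 : F) ≠ 0) {r : GL (Fin m) F} (hr : r ∈ omega (Fin m) F) :
    bd (1, r) ∈ omega ι F :=
  map_omega (bd.comp ((1 : GL (Fin m) F →* GL (Fin m) F).prod (MonoidHom.id _)))
    (fun _ h => (bd_mem_orth h2).2 ⟨one_mem _, h⟩) hr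

variable [Fintype F]

/-- The diagonal of the orthogonal group of a block lies in `Ω`. -/
theorem diag_mem_omega (h2 : (2 : F) ≠ 0) {a : GL (Fin m) F} (ha : a ∈ orth (Fin m) F) :
    bd (a, a) ∈ omega ι F := by
  have e : bd (a, a) = bd (a, 1) * sw * (bd (a, 1) * sw) := by
    rw [mul_assoc, ← mul_assoc sw, sw_bd, mul_assoc (bd (1, a)), sw_sq, mul_one, bd_mul, mul_one, one_mul]
  rw [e]
  exact sq_mem_omega h2 (mul_mem ((bd_mem_orth h2).2 ⟨ha, one_mem _⟩) (sw_mem_orth h2))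

/-- Orthogonal coordinates for an involution and a partner. -/
theorem exists_split {l : ℕ} (hm : m = l + l) (hm4 : 4 ≤ m) {R : Subgroup (GL ι F)} (D : Data R) (hR : R ≤ orth ι F)
    {u y : GL ι F} (hu : u ∈ R) (hy : y ∈ R) (hu2 : u * u = 1) (hy2 : y * y = 1) (huy : u * y = -(y * u)) :
    ∃ (M : Matrix ι ι F) (hMN : M * Mᵀ = 1) (hNM : Mᵀ * M = 1),
      coordEquiv M Mᵀ hMN hNM sg = u ∧ coordEquiv M Mᵀ hMN hNM sw = y ∧
      Split (R.comap (coordEquiv M Mᵀ hMN hNM).toMonoidHom) ∧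
      R.comap (coordEquiv M Mᵀ hMN hNM).toMonoidHom ≤ orth ι F := by
  classical
  haveI : Nonempty (Fin m) := ⟨⟨0, by omega⟩⟩
  have h8 : 8 ≤ Fintype.card ι := by simp; omega
  obtain ⟨M₀, N₀, h₁, h₂, hsg, hsw⟩ := exists_coords D.two (Equiv.refl ι) hu2 hy2 huy
  have int : ∀ {g z : GL ι F}, coordEquiv M₀ N₀ h₁ h₂ g = z → z ∈ orth ι F →
      (mat g)ᵀ * (M₀ᵀ * M₀) * mat g = M₀ᵀ * M₀ := fun {g z} h hz => by
    have e : mat z * M₀ = M₀ * mat g := by rw [← h, coordEquiv_val, Matrix.mul_assoc, h₂, Matrix.mul_one]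
    rw [show (mat g)ᵀ * (M₀ᵀ * M₀) * mat g = (M₀ * mat g)ᵀ * (M₀ * mat g) by
      rw [transpose_mul]; simp only [Matrix.mul_assoc], ← e, transpose_mul]
    rw [show M₀ᵀ * (mat z)ᵀ * (mat z * M₀) = M₀ᵀ * ((mat z)ᵀ * mat z) * M₀ by simp only [Matrix.mul_assoc],
      (mem_orth_iff D.two).1 hz, Matrix.mul_one]
  obtain ⟨G, hG⟩ : ∃ G, G = M₀ᵀ * M₀ := ⟨_, rfl⟩
  obtain ⟨G0, hG0⟩ : ∃ G0, G0 = G.toBlocks₁₁ := ⟨_, rfl⟩
  have hGG : G = fromBlocks G0 0 0 G0 := by
    have e1 := int hsg (hR hu)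
    have e2 := int hsw (hR hy)
    rw [← hG, ← fromBlocks_toBlocks G] at e1 e2
    simp only [sg, bd_val, Units.val_one, Units.val_neg, fromBlocks_transpose, fromBlocks_multiply, transpose_neg,
      transpose_one, transpose_zero, Matrix.mul_zero, Matrix.zero_mul, Matrix.mul_one, Matrix.one_mul, add_zero,
      zero_add, Matrix.mul_neg, Matrix.neg_mul, neg_neg, fromBlocks_inj] at e1
    simp only [sw, fromBlocks_transpose, fromBlocks_multiply, transpose_one, transpose_zero, Matrix.mul_zero,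
      Matrix.zero_mul, Matrix.mul_one, Matrix.one_mul, add_zero, zero_add, fromBlocks_inj] at e2
    have z0 : ∀ {X : Matrix (Fin m) (Fin m) F}, -X = X → X = 0 := fun {X} h => by
      have : (2 : F) • X = 0 := by rw [two_smul]; nth_rewrite 1 [← h]; exact neg_add_cancel X
      exact (smul_eq_zero.1 this).resolve_left D.two
    conv_lhs => rw [← fromBlocks_toBlocks G, z0 e1.2.1, z0 e1.2.2.1, e2.1, ← hG0]
  have hG0s : G0ᵀ = G0 := by
    have h : Gᵀ = G := by rw [hG, transpose_mul, transpose_transpose]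
    rw [hGG, fromBlocks_transpose, fromBlocks_inj] at h
    exact h.1
  have hG0u : ∃ X, X * G0 = 1 := by
    have h : N₀ * N₀ᵀ * G = 1 := by
      rw [hG, show N₀ * N₀ᵀ * (M₀ᵀ * M₀) = N₀ * (M₀ * N₀)ᵀ * M₀ by rw [transpose_mul]; simp only [Matrix.mul_assoc],
        h₁, transpose_one, Matrix.mul_one, h₂]
    rw [hGG, ← fromBlocks_toBlocks (N₀ * N₀ᵀ), fromBlocks_multiply, ← fromBlocks_one, fromBlocks_inj] at h
    exact ⟨_, by simpa using h.1⟩
  -- a root commuting with `u`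
  obtain ⟨z, hz, hz2, -, hzu⟩ := D.exists_root_comm h8 hu fun hs => by
    rcases D.comm u hu y hy with e | e
    · exact ne_neg D.two (y * u) (e.symm.trans huy)
    · have := scalar_comm hs y
      exact ne_neg D.two (y * u) (this.symm.trans huy)
  obtain ⟨z', hz'⟩ := (coordEquiv M₀ N₀ h₁ h₂).surjective z
  obtain ⟨a, b, rfl⟩ := exists_bd_of_comm D.two (g := z') ((coordEquiv M₀ N₀ h₁ h₂).injective (by
    rw [map_mul, map_mul, hz', hsg, hzu]))
  have ha2 : a * a = -1 := by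
    have e : bd (a, b) * bd (a, b) = -1 := (coordEquiv M₀ N₀ h₁ h₂).injective (by
      rw [map_mul, hz', hz2, neg_coordEquiv, map_one])
    rw [bd_mul, ← map_one bd, ← Prod.mk_one_one, ← bd_neg, bd_inj] at e
    exact e.1
  have haG : (mat a)ᵀ * G0 * mat a = G0 := by
    have e := int hz' (hR hz)
    rw [← hG, hGG, bd_val, fromBlocks_transpose, fromBlocks_multiply, fromBlocks_multiply, fromBlocks_inj] at e
    simpa using e.1
  obtain ⟨P₀, Q₀, q₁, q₂, hP₀, -⟩ := exists_orth_frame D.two (η := Fin m) (m := l) (by simp [hm]) G0 hG0s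
    (fun v hv => by
      obtain ⟨X, hX⟩ := hG0u
      have h0 : G0 *ᵥ v = 0 := funext fun i => by
        have := hv (Pi.single i 1)
        rw [dotProduct_mulVec, ← mulVec_transpose, hG0s, dotProduct_single, mul_one] at this
        exact this
      rw [← one_mulVec v, ← hX, ← mulVec_mulVec, h0, mulVec_zero]) ha2 haG
  obtain ⟨P, hP⟩ : ∃ P : Matrix (Fin m) (Fin m) F,
      P = P₀.submatrix id (finSumFinEquiv.trans (finCongr hm.symm)).symm := ⟨_, rfl⟩
  have hPG : Pᵀ * G0 * P = 1 := by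
    rw [hP, transpose_submatrix, show G0 = G0.submatrix id id from rfl, ← submatrix_mul _ _ _ id _ Function.bijective_id,
      ← submatrix_mul _ _ _ id _ Function.bijective_id, hP₀, submatrix_one _ (Equiv.injective _)]
  obtain ⟨M, hM⟩ : ∃ M, M = M₀ * fromBlocks P 0 0 P := ⟨_, rfl⟩
  have hNM : Mᵀ * M = 1 := by
    rw [hM, transpose_mul, show (fromBlocks P 0 0 P)ᵀ * M₀ᵀ * (M₀ * fromBlocks P 0 0 P) =
      (fromBlocks P 0 0 P)ᵀ * (M₀ᵀ * M₀) * fromBlocks P 0 0 P by simp only [Matrix.mul_assoc], ← hG, hGG,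
      fromBlocks_transpose, fromBlocks_multiply, fromBlocks_multiply, ← fromBlocks_one]
    simp [hPG]
  have hMN : M * Mᵀ = 1 := mul_eq_one_comm.1 hNM
  have tr : ∀ {g : GL ι F} {x : GL ι F}, coordEquiv M₀ N₀ h₁ h₂ g = x →
      fromBlocks P 0 0 P * mat g = mat g * fromBlocks P 0 0 P → coordEquiv M Mᵀ hMN hNM g = x := fun {g x} h hg => by
    refine Units.ext ?_
    rw [← h, coordEquiv_val, coordEquiv_val]
    calc M * mat g * Mᵀ = M₀ * mat g * (fromBlocks P 0 0 P * Mᵀ) := by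
          rw [hM, Matrix.mul_assoc M₀, hg]; simp only [Matrix.mul_assoc]
      _ = M₀ * mat g * (N₀ * (M * Mᵀ)) := by
          rw [hM, Matrix.mul_assoc M₀ (fromBlocks P 0 0 P), ← Matrix.mul_assoc N₀ M₀, h₂, Matrix.one_mul]
      _ = _ := by rw [hMN, Matrix.mul_one]
  have c1 := tr hsg (by simp [sg, bd_val, fromBlocks_multiply])
  have c2 := tr hsw (by simp [sw, fromBlocks_multiply])
  refine ⟨M, hMN, hNM, c1, c2, ⟨D.comap, ?_, ?_⟩, fun x hx => (coord_mem_orth D.two hMN hNM).1 (hR hx)⟩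
  · show coordEquiv M Mᵀ hMN hNM sg ∈ R
    rw [c1]; exact hu
  · show coordEquiv M Mᵀ hMN hNM sw ∈ R
    rw [c2]; exact hy

variable {R : Subgroup (GL (κ ⊕ κ) F)} [Nonempty κ]

theorem diag_normalizer (S : Split R) {a : GL κ F} (ha : a ∈ subgroupNormalizer (small R)) :
    bd (a, a) ∈ subgroupNormalizer R := by
  refine S.mem_normalizer (fun y hy => ?_) ?_ ?_
  · rw [bd_inv, bd_mul, bd_mul]; exact (Subgroup.mem_normalizer_iff.1 ha y).1 hy
  · rw [← sg_comm_bd, mul_inv_cancel_right]; exact S.sg_mem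
  · rw [← sw_bd, mul_inv_cancel_right]; exact S.sw_mem

theorem right_normalizer (S : Split R) {r : GL κ F} (hr : r ∈ small R) :
    bd (1, r) ∈ subgroupNormalizer R := by
  have D' := S.small_data
  refine S.mem_normalizer (fun y hy => ?_) ?_ ?_
  · rw [bd_inv, bd_mul, bd_mul, inv_one, one_mul, mul_one]
    rcases D'.comm r hr y hy with e | e
    · rw [e, mul_inv_cancel_right]; exact hy
    · rw [e, neg_mul, mul_inv_cancel_right]; exact S.sign_mem hy
  · rw [← sg_comm_bd, mul_inv_cancel_right]; exact S.sg_mem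
  · rw [bd_inv, mul_assoc, sw_bd, ← mul_assoc, bd_mul, inv_one, one_mul, mul_one]
    refine R.mul_mem ?_ S.sw_mem
    rcases D'.sq r hr with h | h
    · rw [inv_eq_of_mul_eq_one_right h]; exact hr
    · rw [inv_eq_of_mul_eq_one_right (show r * -r = 1 by rw [mul_neg, h, neg_neg]),
        show bd (-r, r) = -bd (r, -r) by rw [← bd_neg, neg_neg], ← neg_one_mul]
      exact R.mul_mem S.data.neg (S.sign_mem hr)

end CfsgLib.OrthPow
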