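import Cfsg.Agent.OrthPow.Split
import Cfsg.Agent.SpEight.Theta
import Mathlib.Algebra.QuadraticAlgebra.Basic

/-!
# The centraliser of `J` in the orthogonal group: rotations and their determinants
-/

set_option autoImplicit false
set_option linter.unusedSectionVars false

namespace CfsgLib.OrthPow

open Matrix Cfsg.Geo CfsgLib.SympType
open CfsgLib.Spinor (reflIso IsReflProd)
open CfsgLib.SpEight (centJ mem_centJ thetaMat theta theta_val det_theta_transpose unitJ)

local notation:max "mat" => Units.val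

variable {F : Type*} [Field F] {m : ℕ}

local notation "ι" => (Fin m ⊕ Fin m)

theorem mem_spGL_iff_transpose {g : GL ι F} :
    g ∈ Cfsg.spGL m F ↔ (mat g)ᵀ * Matrix.J (Fin m) F * mat g = Matrix.J (Fin m) F := by
  rw [MaxSub.mem_spGL_iff, ← Forms.mem_symplecticGroup_iff_form, SymplecticGroup.mem_iff']

/-- The centraliser of `J` in the symplectic and in the orthogonal group agree. -/
theorem mem_centJ_iff (h2 : (2 : F) ≠ 0) {g : GL ι F} :
    g ∈ centJ m F ↔ g ∈ orth ι F ∧ g * unitJ m F = unitJ m F * g := by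
  rw [mem_centJ, mem_spGL_iff_transpose, mem_orth_iff h2]
  refine ⟨fun ⟨h, hc⟩ => ⟨?_, hc⟩, fun ⟨h, hc⟩ => ⟨?_, hc⟩⟩ <;>
    have e : mat g * Matrix.J (Fin m) F = Matrix.J (Fin m) F * mat g := congrArg Units.val hc
  · rw [Matrix.mul_assoc, ← e, ← Matrix.mul_assoc] at h
    have h' := congrArg (fun X => X * -Matrix.J (Fin m) F) h
    simpa [Matrix.mul_assoc, Matrix.J_squared] using h'
  · rw [Matrix.mul_assoc, ← e, ← Matrix.mul_assoc, h, Matrix.one_mul]

variable {L : Type*} [Field L] {ψ : F →+* L} {c : L} (hc : c * c = -1)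
include hc

/-- The determinants of `θ` are rotations. -/
theorem exists_det_theta (g : ↥(centJ m F)) :
    ∃ a b : F, a * a + b * b = 1 ∧ (mat (theta ψ c hc g)).det = ψ a + c * ψ b := by
  obtain ⟨Z, hZ⟩ : ∃ Z : Matrix (Fin m) (Fin m) (QuadraticAlgebra F (-1) 0),
      Z = Matrix.of fun i j => ⟨(mat (g : GL ι F)).toBlocks₁₁ i j, (mat (g : GL ι F)).toBlocks₁₂ i j⟩ := ⟨_, rfl⟩
  have hom : ∀ e : L, e * e = -1 → (thetaMat ψ e (mat (g : GL ι F))).det = ψ Z.det.re + e * ψ Z.det.im :=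
    fun e he => by
      let f : QuadraticAlgebra F (-1) 0 →+* L :=
        { toFun := fun z => ψ z.re + e * ψ z.im
          map_one' := by simp [QuadraticAlgebra.re_one, QuadraticAlgebra.im_one]
          map_mul' := fun x y => by
            simp [QuadraticAlgebra.re_mul, QuadraticAlgebra.im_mul]
            linear_combination -(ψ x.im * ψ y.im) * he
          map_zero' := by simp [QuadraticAlgebra.re_zero, QuadraticAlgebra.im_zero]
          map_add' := fun x y => by simp [QuadraticAlgebra.re_add, QuadraticAlgebra.im_add]; ring }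
      have hf : thetaMat ψ e (mat (g : GL ι F)) = Z.map f := by
        ext i j
        simp [thetaMat, hZ, f]
      rw [hf, ← RingHom.mapMatrix_apply, ← RingHom.map_det]
      rfl
  refine ⟨Z.det.re, Z.det.im, ψ.injective ?_, hom c hc⟩
  have h := det_theta_transpose (ψ := ψ) hc g
  rw [theta_val, hom c hc, hom (-c) (by rw [neg_mul_neg, hc])] at h
  simp only [map_add, map_mul, map_one]
  linear_combination h + (ψ Z.det.im * ψ Z.det.im) * hc

omit hc

/-- The rotation of the plane of `e` and `J e`. -/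
noncomputable def rot (e : ι → F) (a b : F) : Matrix ι ι F :=
  1 + (a - 1) • (vecMulVec e e + vecMulVec (Matrix.J (Fin m) F *ᵥ e) (Matrix.J (Fin m) F *ᵥ e)) +
    b • (vecMulVec (Matrix.J (Fin m) F *ᵥ e) e - vecMulVec e (Matrix.J (Fin m) F *ᵥ e))

theorem J_mulVec_J (v : ι → F) : Matrix.J (Fin m) F *ᵥ (Matrix.J (Fin m) F *ᵥ v) = -v := by
  rw [mulVec_mulVec, Matrix.J_squared, neg_mulVec, one_mulVec]

theorem vecMul_J (v : ι → F) : v ᵥ* Matrix.J (Fin m) F = -(Matrix.J (Fin m) F *ᵥ v) := by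
  rw [← mulVec_transpose, Matrix.J_transpose, neg_mulVec]

theorem rot_comm (e : ι → F) (a b : F) : rot e a b * Matrix.J (Fin m) F = Matrix.J (Fin m) F * rot e a b := by
  simp only [rot, Matrix.add_mul, Matrix.mul_add, Matrix.sub_mul, Matrix.mul_sub, Matrix.smul_mul, Matrix.mul_smul,
    vecMulVec_mul, mul_vecMulVec, Matrix.one_mul, Matrix.mul_one, vecMul_J, J_mulVec_J, vecMulVec_neg,
    neg_vecMulVec, neg_neg]
  module

theorem dot_J_self (h2 : (2 : F) ≠ 0) (v : ι → F) : v ⬝ᵥ (Matrix.J (Fin m) F *ᵥ v) = 0 := by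
  have h : v ⬝ᵥ (Matrix.J (Fin m) F *ᵥ v) = -(v ⬝ᵥ (Matrix.J (Fin m) F *ᵥ v)) := by
    conv_lhs => rw [dotProduct_mulVec, vecMul_J, neg_dotProduct, dotProduct_comm]
  exact (mul_eq_zero.1 (show (2 : F) * _ = 0 by linear_combination h)).resolve_left h2

theorem dot_J_J (v : ι → F) : (Matrix.J (Fin m) F *ᵥ v) ⬝ᵥ (Matrix.J (Fin m) F *ᵥ v) = v ⬝ᵥ v := by
  rw [dotProduct_mulVec, vecMul_J, J_mulVec_J, neg_neg]

theorem exists_rot (h2 : (2 : F) ≠ 0) {e : ι → F} (he : e ⬝ᵥ e = 1) {a b : F} (hab : a * a + b * b = 1) :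
    ∃ t : GL ι F, mat t = rot e a b ∧ t ∈ centJ m F := by
  have hT : (rot e a b)ᵀ = rot e a (-b) := by
    simp only [rot, transpose_add, transpose_sub, transpose_smul, transpose_one, transpose_vecMulVec]
    module
  have h : (rot e a b)ᵀ * rot e a b = 1 := by
    have h0 := dot_J_self h2 e
    have h1 : (Matrix.J (Fin m) F *ᵥ e) ⬝ᵥ e = 0 := by rw [dotProduct_comm, h0]
    rw [hT]
    simp only [rot, Matrix.add_mul, Matrix.mul_add, Matrix.sub_mul, Matrix.mul_sub, Matrix.smul_mul, Matrix.mul_smul,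
      vecMulVec_mul_vecMulVec, Matrix.one_mul, Matrix.mul_one, he, dot_J_J, h0, h1, vecMulVec_smul, one_smul,
      zero_smul, smul_zero, add_zero, zero_add, sub_zero, zero_sub, vecMulVec_zero]
    match_scalars <;> first | linear_combination hab | linear_combination -hab | linear_combination (0 : F) * hab
  obtain ⟨t, ht⟩ : ∃ t : GL ι F, mat t = rot e a b :=
    ⟨⟨rot e a b, (rot e a b)ᵀ, mul_eq_one_comm.1 h, h⟩, rfl⟩
  refine ⟨t, ht, (mem_centJ_iff h2).2 ⟨mem_orth_of_mul (by rw [ht, h]), Units.ext ?_⟩⟩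
  rw [Units.val_mul, Units.val_mul, ht]
  exact rot_comm e a b

include hc

/-- The determinant of a rotation. -/
theorem det_theta_rot {e : ι → F} (he : e ⬝ᵥ e = 1) {a b : F} (g : ↥(centJ m F))
    (hg : mat (g : GL ι F) = rot e a b) : (mat (theta ψ c hc g)).det = ψ a - c * ψ b := by
  obtain ⟨x, hx⟩ : ∃ x : Fin m → L, x = fun i => ψ (e (Sum.inl i)) := ⟨_, rfl⟩
  obtain ⟨y, hy⟩ : ∃ y : Fin m → L, y = fun i => ψ (e (Sum.inr i)) := ⟨_, rfl⟩
  have hJl : ∀ i, (Matrix.J (Fin m) F *ᵥ e) (Sum.inl i) = -e (Sum.inr i) := fun i => by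
    simp [Matrix.J, mulVec, dotProduct, Fintype.sum_sum_type, Matrix.one_apply]
  have hJr : ∀ i, (Matrix.J (Fin m) F *ᵥ e) (Sum.inr i) = e (Sum.inl i) := fun i => by
    simp [Matrix.J, mulVec, dotProduct, Fintype.sum_sum_type, Matrix.one_apply]
  have key : thetaMat ψ c (rot e a b) =
      1 + replicateCol (Fin 1) ((ψ a - c * ψ b - 1) • (x - c • y)) * replicateRow (Fin 1) (x + c • y) := by
    ext i j
    have hl : (rot e a b).toBlocks₁₁ i j = (1 : Matrix (Fin m) (Fin m) F) i j +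
        (a - 1) * (e (Sum.inl i) * e (Sum.inl j) + e (Sum.inr i) * e (Sum.inr j)) +
        b * (e (Sum.inl i) * e (Sum.inr j) - e (Sum.inr i) * e (Sum.inl j)) := by
      by_cases h : i = j <;>
        simp [toBlocks₁₁, rot, vecMulVec_apply, hJl, Matrix.one_apply, h, neg_mul, mul_neg] <;> ring
    have hr : (rot e a b).toBlocks₁₂ i j =
        (a - 1) * (e (Sum.inl i) * e (Sum.inr j) - e (Sum.inr i) * e (Sum.inl j)) +
        b * (-(e (Sum.inr i) * e (Sum.inr j)) - e (Sum.inl i) * e (Sum.inl j)) := by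
      simp [toBlocks₁₂, rot, vecMulVec_apply, hJl, hJr, neg_mul, mul_neg]
      ring
    have h1 : ψ ((1 : Matrix (Fin m) (Fin m) F) i j) = (1 : Matrix (Fin m) (Fin m) L) i j := by
      rw [Matrix.one_apply, Matrix.one_apply, apply_ite ψ, map_one, map_zero]
    simp [thetaMat, hl, hr, h1, Matrix.mul_apply, hx, hy]
    linear_combination (ψ (e (Sum.inr i)) * ψ (e (Sum.inr j)) * (ψ a - 1) +
      ψ b * (ψ (e (Sum.inl i)) * ψ (e (Sum.inr j)) - ψ (e (Sum.inr i)) * ψ (e (Sum.inl j))) -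
      c * ψ b * ψ (e (Sum.inr i)) * ψ (e (Sum.inr j))) * hc
  have hdot : (x + c • y) ⬝ᵥ (x - c • y) = 1 := by
    have h := congrArg ψ he
    simp only [dotProduct, Fintype.sum_sum_type, map_add, map_sum, map_mul, map_one] at h
    rw [← h, ← Finset.sum_add_distrib]
    refine Finset.sum_congr rfl fun i _ => ?_
    simp [hx, hy]
    linear_combination -(ψ (e (Sum.inr i)) * ψ (e (Sum.inr i))) * hc
  rw [theta_val, hg, key, det_one_add_mul_comm, det_fin_one]
  simp only [Matrix.add_apply, Matrix.one_apply_eq]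
  rw [Matrix.replicateRow_mul_replicateCol_apply, dotProduct_smul, hdot, smul_eq_mul, mul_one]
  ring

/-- Every determinant is that of a rotation in a given plane. -/
theorem exists_rot_det (h2 : (2 : F) ≠ 0) {e : ι → F} (he : e ⬝ᵥ e = 1) (g : ↥(centJ m F)) :
    ∃ t : ↥(centJ m F), (∃ a b : F, mat (t : GL ι F) = rot e a b) ∧
      (mat (theta ψ c hc t)).det = (mat (theta ψ c hc g)).det := by
  obtain ⟨a, b, hab, hd⟩ := exists_det_theta hc g
  obtain ⟨t, ht, htC⟩ := exists_rot h2 he (a := a) (b := -b) (by linear_combination hab)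
  refine ⟨⟨t, htC⟩, ⟨a, -b, ht⟩, ?_⟩
  rw [det_theta_rot hc he ⟨t, htC⟩ ht, hd, map_neg]
  ring

omit hc

/-- A rotation outside `Ω`. -/
theorem exists_not_omega [Fintype F] (h2 : (2 : F) ≠ 0) (hm : 0 < m) : ∃ t ∈ centJ m F, t ∉ omega ι F := by
  classical
  obtain ⟨η, hη⟩ := FiniteField.exists_nonsquare (F := F) fun h => h2 (by
    haveI := ringChar.charP F
    exact_mod_cast (CharP.cast_eq_zero_iff F (ringChar F) 2).2 (by rw [h]))
  have hη0 : η ≠ 0 := fun h => hη ⟨0, by rw [h, mul_zero]⟩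
  obtain ⟨α, β, hαβ⟩ := CfsgLib.SpEight.exists_sq_add_sq h2 η
  obtain ⟨e, he⟩ : ∃ e : ι → F, e = Pi.single (Sum.inl ⟨0, hm⟩) 1 := ⟨_, rfl⟩
  have hee : e ⬝ᵥ e = 1 := by rw [he, dotProduct_single, mul_one, Pi.single_eq_same]
  obtain ⟨f, hf⟩ : ∃ f, f = Matrix.J (Fin m) F *ᵥ e := ⟨_, rfl⟩
  obtain ⟨w, hw⟩ : ∃ w, w = α • e + β • f := ⟨_, rfl⟩
  have hef : e ⬝ᵥ f = 0 := hf ▸ dot_J_self h2 e
  have hfe : f ⬝ᵥ e = 0 := by rw [dotProduct_comm, hef]
  have hff : f ⬝ᵥ f = 1 := by rw [hf, dot_J_J, hee]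
  have hQe : sqForm ι F e = 1 := by rw [sqForm_apply, hee]
  have hQw : sqForm ι F w = η := by
    rw [sqForm_apply, hw]
    simp [add_dotProduct, dotProduct_add, smul_dotProduct, dotProduct_smul, hee, hef, hfe, hff]
    linear_combination hαβ
  have he0 : sqForm ι F e ≠ 0 := by rw [hQe]; exact one_ne_zero
  have hw0 : sqForm ι F w ≠ 0 := by rw [hQw]; exact hη0
  obtain ⟨t, ht, htC⟩ := exists_rot h2 hee (a := (α * α - β * β) / η) (b := -(2 * α * β) / η) (by
    field_simp
    linear_combination (α * α + β * β + η) * hαβ)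
  refine ⟨t, htC, fun hΩ => ?_⟩
  obtain ⟨k, hk⟩ : ∃ k, k = reflIso (sqForm ι F) e he0 * reflIso (sqForm ι F) w hw0 := ⟨_, rfl⟩
  have hpol : ∀ v : ι → F, Cfsg.polarVec (⇑(sqForm ι F)) v = (2 : F) • v := fun v => by
    funext i
    simp [Cfsg.polarVec, polar_sqForm, dotProduct_single]
  have htk : (k : GL ι F) = t := Units.ext (by
    rw [hk, Subgroup.coe_mul, Units.val_mul, ht]
    show Cfsg.reflectionMatrix (⇑(sqForm ι F)) e * Cfsg.reflectionMatrix (⇑(sqForm ι F)) w = _
    rw [Cfsg.reflectionMatrix, Cfsg.reflectionMatrix, hQe, hQw, hpol, hpol, rot, ← hf]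
    simp only [hw, inv_one, one_smul, vecMulVec_smul, smul_vecMulVec, vecMulVec_add, add_vecMulVec, Matrix.sub_mul,
      Matrix.mul_sub, Matrix.add_mul, Matrix.mul_add, Matrix.smul_mul, Matrix.mul_smul, Matrix.one_mul, Matrix.mul_one,
      vecMulVec_mul_vecMulVec, hee, hef, vecMulVec_zero, smul_zero, zero_smul, smul_add, add_zero]
    match_scalars
    all_goals field_simp
    all_goals first
      | ring1
      | linear_combination (-2 : F) * hαβ
      | linear_combination (2 : F) * hαβ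
      | linear_combination (-1 : F) * hαβ
      | linear_combination (1 : F) * hαβ)
  have hkΩ : k ∈ Cfsg.Omega F ⇑(sqForm ι F) := by
    obtain ⟨k', hk', e'⟩ := hΩ
    rwa [← show k' = k from Subtype.ext (e'.trans htk.symm)]
  have h := ((CfsgLib.Spinor.mem_omega_iff h2 (nondegenerate_sqForm h2)
    (hk ▸ ((IsReflProd.reflIso e he0).mul (IsReflProd.reflIso w hw0)))).1 hkΩ).2
  rw [List.map_append, List.prod_append] at h
  simp [hQe, hQw] at h
  exact hη h

end CfsgLib.OrthPow
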