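import Cfsg.Agent.OrthPow.Split
import Cfsg.Agent.AschbacherQuad.Basic

/-!
# Coordinates turning a quadratic form into a sum of squares

`exists_transport`: a non-degenerate quadratic form with an isometric square root of `-1` is a sum of squares in
suitable coordinates, which carry its isometry group and `Ω` to those of the sum of squares.
-/

set_option autoImplicit false
set_option linter.unusedSectionVars false

namespace CfsgLib.OrthPow

open Matrix Cfsg.Geo CfsgLib.SympType
open scoped commutatorElement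

local notation:max "mat" => Units.val

variable {η κ : Type} [Fintype η] [DecidableEq η] [Fintype κ] [DecidableEq κ] {F : Type*} [Field F]

theorem mem_isometryGroup_iff {Q : (η → F) → F} {g : GL η F} :
    g ∈ Cfsg.isometryGroup F Q ↔ ∀ v, Q (mat g *ᵥ v) = Q v :=
  TensorNonmax.mem_isometryGroup

/-- `Ω` is the commutator of the isometry group inside the general linear group. -/
theorem omegaGL_eq_commutator (Q : (η → F) → F) :
    omegaGL Q = ⁅Cfsg.isometryGroup F Q, Cfsg.isometryGroup F Q⁆ := by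
  rw [omegaGL, Cfsg.Omega, commutator_def, Subgroup.map_commutator, ← MonoidHom.range_eq_map,
    Subgroup.range_subtype]

/-- Coordinates turning one function into another carry the isometries and their commutators. -/
theorem comap_coordEquiv (M : Matrix η κ F) (N : Matrix κ η F) (hMN : M * N = 1) (hNM : N * M = 1)
    {Q : (η → F) → F} {Q' : (κ → F) → F} (hQ : ∀ u, Q (M *ᵥ u) = Q' u) :
    (Cfsg.isometryGroup F Q).comap (coordEquiv M N hMN hNM).toMonoidHom = Cfsg.isometryGroup F Q' ∧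
      (omegaGL Q).comap (coordEquiv M N hMN hNM).toMonoidHom = omegaGL Q' := by
  have h1 : (Cfsg.isometryGroup F Q).comap (coordEquiv M N hMN hNM).toMonoidHom = Cfsg.isometryGroup F Q' := by
    ext g
    rw [Subgroup.mem_comap, MulEquiv.coe_toMonoidHom, mem_isometryGroup_iff, mem_isometryGroup_iff]
    refine ⟨fun h u => ?_, fun h v => ?_⟩
    · have := h (M *ᵥ u)
      rwa [coordEquiv_val, mulVec_mulVec, Matrix.mul_assoc, hNM, Matrix.mul_one, ← mulVec_mulVec, hQ, hQ] at this
    · rw [coordEquiv_val, ← mulVec_mulVec, ← mulVec_mulVec, hQ, h, ← hQ, mulVec_mulVec, hMN, one_mulVec]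
  refine ⟨h1, ?_⟩
  rw [Subgroup.comap_equiv_eq_map_symm'] at h1 ⊢
  rw [omegaGL_eq_commutator, omegaGL_eq_commutator, Subgroup.map_commutator, h1]

variable [Fintype F]

/-- **The transport.** -/
theorem exists_transport (h2 : (2 : F) ≠ 0) {m : ℕ} (hη : Fintype.card η = m + m) {Q : (η → F) → F}
    (hQ : Cfsg.Geo.IsNondegenerateQuadraticForm Q) {x : GL η F} (hxQ : x ∈ Cfsg.isometryGroup F Q)
    (hx2 : x * x = -1) :
    ∃ (M : Matrix η (Fin m ⊕ Fin m) F) (N : Matrix (Fin m ⊕ Fin m) η F) (hMN : M * N = 1) (hNM : N * M = 1),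
      (Cfsg.isometryGroup F Q).comap (coordEquiv M N hMN hNM).toMonoidHom = orth (Fin m ⊕ Fin m) F ∧
      (omegaGL Q).comap (coordEquiv M N hMN hNM).toMonoidHom = omega (Fin m ⊕ Fin m) F := by
  obtain ⟨q, hq⟩ : ∃ q, q = AschbacherQuad.quadForm hQ := ⟨_, rfl⟩
  have hqQ : ⇑q = Q := hq ▸ AschbacherQuad.coe_quadForm hQ
  let B : (η → F) →ₗ[F] (η → F) →ₗ[F] F := QuadraticMap.polarBilin q
  obtain ⟨G, hG⟩ : ∃ G : Matrix η η F, G = (2 : F)⁻¹ • LinearMap.toMatrix₂' F B := ⟨_, rfl⟩
  have hBG : ∀ u v, u ⬝ᵥ (G *ᵥ v) = (2 : F)⁻¹ * QuadraticMap.polar Q u v := fun u v => by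
    have e : B u v = u ⬝ᵥ (LinearMap.toMatrix₂' F B *ᵥ v) := by
      rw [← Matrix.toLinearMap₂'_apply', Matrix.toLinearMap₂'_toMatrix']
    rw [hG, smul_mulVec, dotProduct_smul, smul_eq_mul, ← e, ← hqQ]
    rfl
  have hQG : ∀ v, v ⬝ᵥ (G *ᵥ v) = Q v := fun v => by
    rw [hBG, ← hqQ, QuadraticMap.polar_self, two_nsmul]
    field_simp
    ring
  have hGs : Gᵀ = G := by
    ext i j
    have h := hBG (Pi.single j 1) (Pi.single i 1)
    rw [mulVec_single_one, single_dotProduct, one_mul] at h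
    have h' := hBG (Pi.single i 1) (Pi.single j 1)
    rw [mulVec_single_one, single_dotProduct, one_mul] at h'
    rw [transpose_apply]
    exact h.trans (by rw [QuadraticMap.polar_comm]; exact h'.symm)
  have hGd : ∀ u : η → F, (∀ v, u ⬝ᵥ (G *ᵥ v) = 0) → u = 0 := fun u hu => by
    by_contra h0
    obtain ⟨v, hv⟩ : ∃ v, QuadraticMap.polar Q u v ≠ 0 := by
      obtain ⟨⟨v, hv⟩, ⟨w, hw⟩⟩ := hQ.nondegenerate u h0
      first
        | exact ⟨v, hv⟩
        | exact ⟨w, hw⟩
    have := hu v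
    rw [hBG] at this
    exact hv ((mul_eq_zero.1 this).resolve_left (inv_ne_zero h2))
  have hx : ∀ v, Q (mat x *ᵥ v) = Q v := mem_isometryGroup_iff.1 hxQ
  have hxG : (mat x)ᵀ * G * mat x = G := by
    refine Matrix.ext_of_mulVec_single fun j => funext fun i => ?_
    have h1 := hBG (mat x *ᵥ Pi.single i 1) (mat x *ᵥ Pi.single j 1)
    have h2' : QuadraticMap.polar Q (mat x *ᵥ Pi.single i 1) (mat x *ᵥ Pi.single j 1) =
        QuadraticMap.polar Q (Pi.single i 1) (Pi.single j 1) := by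
      simp only [QuadraticMap.polar, ← mulVec_add, hx]
    rw [h2', ← hBG] at h1
    have e : (mat x *ᵥ Pi.single i 1) ⬝ᵥ (G *ᵥ (mat x *ᵥ Pi.single j 1)) =
        Pi.single i 1 ⬝ᵥ (((mat x)ᵀ * G * mat x) *ᵥ Pi.single j 1) := by
      rw [dotProduct_comm, dotProduct_mulVec, ← mulVec_transpose, dotProduct_comm, mulVec_mulVec, mulVec_mulVec]
    rw [e, single_dotProduct, one_mul, single_dotProduct, one_mul] at h1
    exact h1
  obtain ⟨M, N, hMN, hNM, hMG, -⟩ := exists_orth_frame h2 hη G hGs hGd hx2 hxG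
  refine ⟨M, N, hMN, hNM, comap_coordEquiv M N hMN hNM fun u => ?_⟩
  rw [sqForm_apply, ← hQG, dotProduct_comm, dotProduct_mulVec, ← mulVec_transpose, dotProduct_comm, mulVec_mulVec,
    mulVec_mulVec, hMG, one_mulVec]

end CfsgLib.OrthPow
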